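import Groth.Agent.L27.TopInv.Alg.Flat
import Mathlib.RingTheory.Smooth.Fiber
import Mathlib.RingTheory.Smooth.Quotient
import Mathlib.RingTheory.Smooth.Flat
import Mathlib.RingTheory.Kaehler.TensorProduct
import Mathlib.RingTheory.Etale.Basic
import Mathlib.RingTheory.Ideal.GoingUp
import Mathlib.RingTheory.Flat.EquationalCriterion
import Mathlib.RingTheory.FinitePresentation
import Mathlib.RingTheory.IsTensorProduct

/-! # Gluing etale algebras along a conductor square -/

universe u

open TensorProduct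

namespace Groth.L27.TopInv.Milnor

variable {A A' : Type u} [CommRing A] [CommRing A'] [Algebra A A']

theorem smul_tmul_mem {C : Type u} [CommRing C] [Algebra A C] (J : Ideal A)
    (hJ : ∀ j ∈ J, ∀ x : A', ∃ a ∈ J, algebraMap A A' a = algebraMap A A' j * x)
    (z : A' ⊗[A] C) (j : A) (hj : j ∈ J) :
    ∃ c ∈ J.map (algebraMap A C), j • z = (1 : A') ⊗ₜ[A] c := by
  induction z with
  | zero => exact ⟨0, zero_mem _, by simp⟩
  | tmul x c =>
    obtain ⟨a, ha, e⟩ := hJ j hj x
    refine ⟨algebraMap A C a * c, Ideal.mul_mem_right _ _ (Ideal.mem_map_of_mem _ ha), ?_⟩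
    rw [← Algebra.smul_def, ← TensorProduct.smul_tmul, TensorProduct.smul_tmul',
      Algebra.smul_def, Algebra.smul_def, mul_one, e]
  | add z w hz hw =>
    obtain ⟨c, hc, e⟩ := hz
    obtain ⟨d, hd, e'⟩ := hw
    exact ⟨c + d, add_mem hc hd, by rw [smul_add, e, e', tmul_add]⟩

/-- A finite module killed by an injective integral extension of the base vanishes. -/
theorem subsingleton_of_tensor {A A' C N : Type u} [CommRing A] [CommRing A'] [Algebra A A']
    [CommRing C] [Algebra A C] [AddCommGroup N] [Module C N] [Module A N] [IsScalarTower A C N]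
    [Module.Finite C N] (hinj : Function.Injective (Algebra.TensorProduct.includeRight : C →ₐ[A] A' ⊗[A] C))
    [Algebra.IsIntegral A A'] (h : Subsingleton (A' ⊗[A] N)) : Subsingleton N := by
  rw [← Module.support_eq_empty_iff (R := C), Set.eq_empty_iff_forall_notMem]
  intro q hq
  let C'' := A' ⊗[A] C
  let f : C →+* A' ⊗[A] C := (Algebra.TensorProduct.includeRight : C →ₐ[A] A' ⊗[A] C).toRingHom
  letI : Algebra C (A' ⊗[A] C) := Algebra.TensorProduct.rightAlgebra
  have : Algebra.IsIntegral C (A' ⊗[A] C) := by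
    refine ⟨fun z => ?_⟩
    induction z with
    | zero => exact isIntegral_zero
    | tmul x c =>
      rw [show x ⊗ₜ[A] c = (algebraMap C (A' ⊗[A] C) c) * (x ⊗ₜ[A] (1 : C)) by
        simp [Algebra.TensorProduct.right_algebraMap_apply]]
      exact (isIntegral_algebraMap).mul
        (((Algebra.IsIntegral.isIntegral (R := A) x).map
          (Algebra.TensorProduct.includeLeft : A' →ₐ[A] A' ⊗[A] C)).tower_top)
    | add z w hz hw => exact hz.add hw
  have hinj' : Function.Injective (algebraMap C (A' ⊗[A] C)) := hinj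
  obtain ⟨Q, -, hQ', hQq⟩ := Ideal.exists_ideal_over_prime_of_isIntegral q.asIdeal (⊥ : Ideal (A' ⊗[A] C))
    (by rw [← RingHom.ker_eq_comap_bot, (RingHom.injective_iff_ker_eq_bot _).1 hinj']; exact bot_le)
  let κ := q.asIdeal.ResidueField
  let K := Q.ResidueField
  let ι : κ →+* K := Ideal.ResidueField.map _ Q (algebraMap C (A' ⊗[A] C)) hQq.symm
  letI : Algebra κ K := ι.toAlgebra
  haveI : IsScalarTower C κ K :=
    .of_algebraMap_eq fun c => (Ideal.ResidueField.map_algebraMap _ _ _ hQq.symm c).symm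
  have h1 : Nontrivial (κ ⊗[C] N) :=
    (Module.mem_support_iff_nontrivial_residueField_tensorProduct (M := N) q).1 hq
  have h2 : Nontrivial (K ⊗[κ] (κ ⊗[C] N)) := (Module.FaithfullyFlat.nontrivial_tensorProduct_iff_right κ K).2 h1
  have h3 : Nontrivial (K ⊗[C] N) :=
    (AlgebraTensorModule.cancelBaseChange C κ K K N).nontrivial_congr.1 h2
  refine not_subsingleton (K ⊗[C] N) (subsingleton_of_forall_eq 0 fun z => ?_)
  have hAC : ∀ r : A, algebraMap A (A' ⊗[A] C) r = algebraMap C (A' ⊗[A] C) (algebraMap A C r) :=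
    fun r => ((Algebra.TensorProduct.includeRight : C →ₐ[A] A' ⊗[A] C).commutes r).symm
  haveI : IsScalarTower A C K := .of_algebraMap_eq fun r => by
    rw [IsScalarTower.algebraMap_apply A (A' ⊗[A] C) K, hAC,
      ← IsScalarTower.algebraMap_apply C (A' ⊗[A] C) K]
  let j : A' →ₐ[A] K :=
    (IsScalarTower.toAlgHom A (A' ⊗[A] C) K).comp
      (Algebra.TensorProduct.includeLeft : A' →ₐ[A] A' ⊗[A] C)
  let ψ : A' ⊗[A] N →ₗ[A] K ⊗[C] N :=
    TensorProduct.lift
      (((TensorProduct.mk C K N).restrictScalars₁₂ A A).comp j.toLinearMap)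
  induction z with
  | zero => rfl
  | tmul k n =>
    have e : ψ ((1 : A') ⊗ₜ[A] n) = (1 : K) ⊗ₜ[C] n := by simp [ψ]
    rw [Subsingleton.elim ((1 : A') ⊗ₜ[A] n) 0, map_zero] at e
    rw [← mul_one k, ← smul_eq_mul, ← TensorProduct.smul_tmul', ← e, smul_zero]
  | add z w hz hw => rw [hz, hw, add_zero]

/-- A finitely generated image ideal is the image of a finitely generated subideal. -/
theorem exists_fg_le_map_eq {P Q F : Type*} [CommRing P] [CommRing Q] [FunLike F P Q] [RingHomClass F P Q]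
    (f : F) (K : Ideal P) (h : (K.map f).FG) :
    ∃ K₀ : Ideal P, K₀.FG ∧ K₀ ≤ K ∧ K.map f = K₀.map f := by
  classical
  obtain ⟨S, hS⟩ := h
  have : ∀ y ∈ S, ∃ T : Finset P, (T : Set P) ⊆ K ∧ y ∈ Ideal.span (f '' T) := by
    intro y hy
    have hy' : y ∈ Ideal.span (f '' (K : Set P)) := by
      have h' : y ∈ Ideal.span (S : Set Q) := Ideal.subset_span hy
      rw [hS] at h'
      exact h'
    obtain ⟨T, hT, hy''⟩ := Submodule.mem_span_finite_of_mem_span hy'
    choose! pre hpre using fun t (ht : t ∈ T) => hT ht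
    refine ⟨T.image pre, ?_, ?_⟩
    · intro x hx
      obtain ⟨t, ht, rfl⟩ := Finset.mem_image.1 hx
      exact (hpre t ht).1
    · refine Ideal.span_mono ?_ hy''
      intro t ht
      exact ⟨pre t, Finset.mem_image_of_mem _ ht, (hpre t ht).2⟩
  choose! T hTK hT using this
  refine ⟨Ideal.span (S.biUnion T : Finset P), ⟨_, rfl⟩, ?_, ?_⟩
  · rw [Ideal.span_le]
    intro x hx
    obtain ⟨y, hy, hx'⟩ := Finset.mem_biUnion.1 hx
    exact hTK y hy hx'
  · refine le_antisymm ?_ (Ideal.map_mono (Ideal.span_le.2 fun x hx => ?_))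
    · rw [← hS, Ideal.span_le]
      intro y hy
      rw [Ideal.map_span]
      exact Ideal.span_mono (Set.image_mono fun x hx => Finset.mem_biUnion.2 ⟨y, hy, hx⟩) (hT y hy)
    · obtain ⟨y, hy, hx'⟩ := Finset.mem_biUnion.1 hx
      exact hTK y hy hx'

theorem mem_sup_of_includeRight_mem {P : Type u} [CommRing P] [Algebra A P] (J : Ideal A) (L : Ideal P)
    (k : P) (h : (1 : A ⧸ J) ⊗ₜ[A] k ∈
      L.map (Algebra.TensorProduct.includeRight : P →ₐ[A] (A ⧸ J) ⊗[A] P)) :
    k ∈ L ⊔ J.map (algebraMap A P) := by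
  let ρ : (A ⧸ J) ⊗[A] P →ₐ[A] P ⧸ (L ⊔ J.map (algebraMap A P)) :=
    Algebra.TensorProduct.lift (Ideal.Quotient.liftₐ J (Algebra.ofId A _) fun a ha =>
        Ideal.Quotient.eq_zero_iff_mem.2 (Submodule.mem_sup_right (Ideal.mem_map_of_mem _ ha)))
      (Ideal.Quotient.mkₐ A _) fun _ _ => Commute.all _ _
  have hle : L.map (Algebra.TensorProduct.includeRight : P →ₐ[A] (A ⧸ J) ⊗[A] P) ≤ RingHom.ker ρ :=
    Ideal.map_le_iff_le_comap.2 fun x hx => by
      simpa [ρ, Ideal.Quotient.eq_zero_iff_mem] using Submodule.mem_sup_left hx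
  have := hle h
  simpa [ρ, Ideal.Quotient.eq_zero_iff_mem] using this

theorem smul_mem_of_includeRight_mem {P : Type u} [CommRing P] [Algebra A P] [Module.Flat A P]
    (hinj : Function.Injective (algebraMap A A')) (J : Ideal A)
    (hJ : ∀ j ∈ J, ∀ x : A', ∃ a ∈ J, algebraMap A A' a = algebraMap A A' j * x) (L : Ideal P) (k : P)
    (h : (1 : A') ⊗ₜ[A] k ∈ L.map (Algebra.TensorProduct.includeRight : P →ₐ[A] A' ⊗[A] P))
    (j : A) (hj : j ∈ J) : j • k ∈ L := by
  suffices ∀ w ∈ L.map (Algebra.TensorProduct.includeRight : P →ₐ[A] A' ⊗[A] P),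
      ∀ j ∈ J, ∃ l ∈ L, j • w = (1 : A') ⊗ₜ[A] l by
    obtain ⟨l, hl, e⟩ := this _ h j hj
    rw [← TensorProduct.tmul_smul] at e
    rwa [Algebra.TensorProduct.includeRight_injective hinj e]
  intro w hw
  refine Submodule.span_induction ?_ ?_ ?_ ?_ hw
  · rintro _ ⟨l, hl, rfl⟩ j hj
    exact ⟨j • l, Submodule.smul_of_tower_mem L j hl, (TensorProduct.tmul_smul j (1 : A') l).symm⟩
  · exact fun j _ => ⟨0, zero_mem _, by simp⟩
  · intro a b _ _ ha hb j hj
    obtain ⟨l, hl, e⟩ := ha j hj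
    obtain ⟨l', hl', e'⟩ := hb j hj
    exact ⟨l + l', add_mem hl hl', by rw [smul_add, e, e', tmul_add]⟩
  · intro z a _ ha
    induction z with
    | zero => exact fun j _ => ⟨0, zero_mem _, by simp⟩
    | tmul x p =>
      intro j hj
      obtain ⟨a', ha', e⟩ := hJ j hj x
      obtain ⟨l, hl, el⟩ := ha a' ha'
      refine ⟨p * l, L.mul_mem_left _ hl, ?_⟩
      have e' : j • (x ⊗ₜ[A] p) = a' • ((1 : A') ⊗ₜ[A] p) := by
        rw [TensorProduct.smul_tmul', TensorProduct.smul_tmul', Algebra.smul_def, Algebra.smul_def, e, mul_one]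
      rw [smul_eq_mul, ← smul_mul_assoc, e', smul_mul_assoc, ← mul_smul_comm, el,
        Algebra.TensorProduct.tmul_mul_tmul, one_mul]
    | add z z' hz hz' =>
      intro j hj
      obtain ⟨l, hl, e⟩ := hz j hj
      obtain ⟨l', hl', e'⟩ := hz' j hj
      exact ⟨l + l', add_mem hl hl', by rw [add_smul, smul_add, e, e', tmul_add]⟩

/-- Etale algebras glue along a conductor square. -/
theorem exists_glue (hinj : Function.Injective (algebraMap A A')) [Algebra.IsIntegral A A'] (J : Ideal A)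
    (hJ : ∀ j ∈ J, ∀ x : A', ∃ a ∈ J, algebraMap A A' a = algebraMap A A' j * x)
    (C' : Type u) [CommRing C'] [Algebra A' C'] [Algebra A C'] [IsScalarTower A A' C']
    [Algebra.Etale A' C'] (D₀ : Type u) [CommRing D₀] [Algebra A D₀] [Algebra (A ⧸ J) D₀]
    [IsScalarTower A (A ⧸ J) D₀] [Algebra.Etale (A ⧸ J) D₀]
    (γ : A' ⊗[A] D₀ ≃ₐ[A'] C' ⧸ J.map (algebraMap A C')) :
    ∃ (C : Type u) (_ : CommRing C) (_ : Algebra A C), Algebra.Etale A C ∧
      Nonempty (A' ⊗[A] C ≃ₐ[A'] C') := by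
  let JC' : Ideal C' := J.map (algebraMap A C')
  -- `D₀ → C' ⧸ J C'` is injective
  let β : D₀ →ₐ[A] C' ⧸ JC' := (γ.toAlgHom.restrictScalars A).comp Algebra.TensorProduct.includeRight
  have hβ : Function.Injective β := by
    have hJA : J.map (algebraMap A A') ≤ _ := le_rfl
    let A₀' := A' ⧸ J.map (algebraMap A A')
    let i : (A ⧸ J) →ₐ[A ⧸ J] A₀' := Algebra.ofId _ _
    have hi : Function.Injective i := by
      rw [injective_iff_map_eq_zero]
      intro x hx
      obtain ⟨x, rfl⟩ := Ideal.Quotient.mk_surjective x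
      have hx' : algebraMap A A' x ∈ J.map (algebraMap A A') := Ideal.Quotient.eq_zero_iff_mem.1 hx
      obtain ⟨a, ha, e⟩ := exists_of_mem_map J hJ hx'
      exact Ideal.Quotient.eq_zero_iff_mem.2 (hinj e ▸ ha)
    have hflat : Function.Injective (i.toLinearMap.rTensor D₀) :=
      Module.Flat.rTensor_preserves_injective_linearMap _ hi
    let ψ : A' ⊗[A] D₀ →ₐ[A] A₀' ⊗[A ⧸ J] D₀ :=
      Algebra.TensorProduct.lift
        (((Algebra.TensorProduct.includeLeft : A₀' →ₐ[A] A₀' ⊗[A ⧸ J] D₀)).comp (Ideal.Quotient.mkₐ A _))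
        ((Algebra.TensorProduct.includeRight : D₀ →ₐ[A ⧸ J] A₀' ⊗[A ⧸ J] D₀).restrictScalars A)
        (fun _ _ => Commute.all _ _)
    intro a b hab
    have h := congrArg ψ (γ.injective hab)
    simp only [ψ, Algebra.TensorProduct.includeRight_apply, Algebra.TensorProduct.lift_tmul, map_one,
      one_mul, AlgHom.restrictScalars_apply] at h
    have := hflat (a₁ := (1 : A ⧸ J) ⊗ₜ[A ⧸ J] a) (a₂ := 1 ⊗ₜ b) (by simpa [i] using h)
    simpa using congrArg (TensorProduct.lid (A ⧸ J) D₀) this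
  -- the glued algebra
  let mk' : C' →ₐ[A] C' ⧸ JC' := Ideal.Quotient.mkₐ A JC'
  let C : Subalgebra A C' := β.range.comap mk'
  have hJC' : ∀ z ∈ JC', z ∈ C := fun z hz =>
    ⟨0, (map_zero β).trans (Ideal.Quotient.eq_zero_iff_mem.2 hz).symm⟩
  have hq : ∀ d, ∃ c : C, mk' c = β d := fun d => by
    obtain ⟨c, hc⟩ := Ideal.Quotient.mk_surjective (β d)
    exact ⟨⟨c, ⟨d, hc.symm⟩⟩, hc⟩
  let q : C →ₐ[A] D₀ := (AlgEquiv.ofInjective β hβ).symm.toAlgHom.comp
    ((mk'.comp C.val).codRestrict β.range fun c => c.2)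
  have hqβ : ∀ c : C, β (q c) = mk' c := fun c =>
    congrArg Subtype.val ((AlgEquiv.ofInjective β hβ).apply_symm_apply ⟨mk' c, c.2⟩)
  have hqs : Function.Surjective q := fun d => by
    obtain ⟨c, hc⟩ := hq d
    exact ⟨c, hβ ((hqβ c).trans hc)⟩
  -- the multiplication map
  let μ : A' ⊗[A] C →ₐ[A'] C' := Algebra.TensorProduct.lift (Algebra.ofId A' C') C.val fun _ _ => Commute.all _ _
  have hμone : ∀ c : C, μ ((1 : A') ⊗ₜ c) = c := fun c => by simp [μ]
  have hμs : Function.Surjective μ := by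
    intro z
    suffices ∀ w : A' ⊗[A] D₀, ∃ t : A' ⊗[A] C, mk' (μ t) = γ w by
      obtain ⟨w, hw⟩ := γ.surjective (mk' z)
      obtain ⟨t, ht⟩ := this w
      have hm : z - μ t ∈ JC' := Ideal.Quotient.eq_zero_iff_mem.1 (by
        change mk' (z - μ t) = 0
        rw [map_sub, ht, hw, sub_self])
      refine ⟨t + (1 : A') ⊗ₜ ⟨_, hJC' _ hm⟩, ?_⟩
      rw [map_add, hμone]
      exact add_sub_cancel _ _
    intro w
    induction w with
    | zero => exact ⟨0, by simp⟩
    | tmul x d =>
      obtain ⟨c, hc⟩ := hq d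
      refine ⟨x ⊗ₜ c, ?_⟩
      rw [show x ⊗ₜ[A] d = x • ((1 : A') ⊗ₜ[A] d) by simp [TensorProduct.smul_tmul'], map_smul]
      rw [show γ ((1 : A') ⊗ₜ[A] d) = β d from rfl, ← hc]
      simp [μ, mk', Algebra.smul_def]
      rfl
    | add w v hw hv =>
      obtain ⟨t, ht⟩ := hw
      obtain ⟨s, hs⟩ := hv
      exact ⟨t + s, by simp [map_add, ht, hs]⟩
  have hker_q : RingHom.ker q = J.map (algebraMap A C) := by
    refine le_antisymm ?_ (Ideal.map_le_iff_le_comap.2 fun j hj => ?_)
    · intro c hc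
      have hc' : (c : C') ∈ JC' := by
        refine Ideal.Quotient.eq_zero_iff_mem.1 ?_
        change mk' c = 0
        rw [← hqβ, RingHom.mem_ker.1 hc, map_zero]
      suffices ∀ z ∈ JC', ∃ d ∈ J.map (algebraMap A C), (d : C') = z by
        obtain ⟨d, hd, e⟩ := this _ hc'
        rwa [show c = d from Subtype.ext e.symm]
      intro z hz
      refine Submodule.span_induction ?_ ?_ ?_ ?_ hz
      · rintro _ ⟨j, hj, rfl⟩; exact ⟨_, Ideal.mem_map_of_mem _ hj, rfl⟩
      · exact ⟨0, zero_mem _, rfl⟩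
      · rintro _ _ _ _ ⟨a, ha, rfl⟩ ⟨b, hb, rfl⟩; exact ⟨a + b, add_mem ha hb, rfl⟩
      · rintro x _ _ ⟨d, hd, rfl⟩
        obtain ⟨t, rfl⟩ := hμs x
        suffices ∀ d' : C, ∀ d ∈ J.map (algebraMap A C), ∀ t : A' ⊗[A] C,
            ∃ e ∈ J.map (algebraMap A C), (e : C') = μ t * d by
          exact (this d d hd t).imp fun e he => ⟨he.1, he.2⟩
        intro _ d hd t
        refine Submodule.span_induction ?_ ?_ ?_ ?_ hd
        · rintro _ ⟨j, hj, rfl⟩
          obtain ⟨c', hc', e⟩ := smul_tmul_mem J hJ t j hj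
          refine ⟨c', hc', ?_⟩
          rw [← hμone c', ← e, ← IsScalarTower.algebraMap_smul A' j t, map_smul, Algebra.smul_def,
            ← IsScalarTower.algebraMap_apply, mul_comm]
          rfl
        · exact ⟨0, zero_mem _, by simp⟩
        · rintro _ _ _ _ ⟨a, ha, ea⟩ ⟨b, hb, eb⟩
          exact ⟨a + b, add_mem ha hb, by simp [ea, eb, mul_add]⟩
        · rintro c _ _ ⟨e, he, ee⟩
          refine ⟨c * e, Ideal.mul_mem_left _ _ he, ?_⟩
          simp [ee]
          ring
    · exact Ideal.mem_comap.2 (RingHom.mem_ker.2 (by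
        rw [AlgHom.commutes, IsScalarTower.algebraMap_apply A (A ⧸ J) D₀, Ideal.Quotient.algebraMap_eq,
          Ideal.Quotient.eq_zero_iff_mem.2 hj, map_zero]))
  have hμi : Function.Injective μ := by
    rw [injective_iff_map_eq_zero]
    intro t ht
    have h0 : t ∈ RingHom.ker (Algebra.TensorProduct.map (AlgHom.id A A') q) := by
      refine RingHom.mem_ker.2 (γ.injective ?_)
      rw [map_zero]
      suffices ∀ t : A' ⊗[A] C, γ (Algebra.TensorProduct.map (AlgHom.id A A') q t) = mk' (μ t) by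
        rw [this, ht, map_zero]
      intro t
      induction t with
      | zero => simp
      | tmul x c =>
        rw [Algebra.TensorProduct.map_tmul, AlgHom.id_apply,
          show x ⊗ₜ[A] q c = x • ((1 : A') ⊗ₜ[A] q c) by simp [TensorProduct.smul_tmul'], map_smul,
          show γ ((1 : A') ⊗ₜ[A] q c) = β (q c) from rfl, hqβ]
        simp [μ, mk', Algebra.smul_def]
        rfl
      | add a b ha hb => simp only [map_add, ha, hb]
    rw [Algebra.TensorProduct.lTensor_ker _ hqs, hker_q] at h0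
    obtain ⟨c, -, e⟩ : ∃ c ∈ J.map (algebraMap A C), (1 : A') ⊗ₜ[A] c = t := by
      refine Submodule.span_induction ?_ ?_ ?_ ?_ h0
      · rintro _ ⟨d, hd, rfl⟩; exact ⟨d, hd, rfl⟩
      · exact ⟨0, zero_mem _, tmul_zero _ _⟩
      · rintro _ _ _ _ ⟨a, ha, rfl⟩ ⟨b, hb, rfl⟩; exact ⟨a + b, add_mem ha hb, tmul_add _ _ _⟩
      · rintro x _ _ ⟨d, hd, rfl⟩
        suffices ∀ d ∈ J.map (algebraMap A C), ∀ x, ∃ e ∈ J.map (algebraMap A C),
            (1 : A') ⊗ₜ[A] e = x * ((1 : A') ⊗ₜ[A] d) from this d hd x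
        intro d hd
        refine Submodule.span_induction ?_ ?_ ?_ ?_ hd
        · rintro _ ⟨j, hj, rfl⟩ x
          obtain ⟨c', hc', e⟩ := smul_tmul_mem J hJ x j hj
          refine ⟨c', hc', e.symm.trans ?_⟩
          rw [Algebra.smul_def, mul_comm]
          congr 1
          exact ((Algebra.TensorProduct.includeRight : C →ₐ[A] A' ⊗[A] C).commutes j).symm
        · exact fun x => ⟨0, zero_mem _, by simp⟩
        · intro a b _ _ ha hb x
          obtain ⟨e, he, ee⟩ := ha x
          obtain ⟨e', he', ee'⟩ := hb x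
          exact ⟨e + e', add_mem he he', by rw [tmul_add, ee, ee', tmul_add, mul_add]⟩
        · intro c a _ ha x
          obtain ⟨e, he, ee⟩ := ha (x * ((1 : A') ⊗ₜ[A] c))
          exact ⟨e, he, ee.trans (by rw [smul_eq_mul, mul_assoc, Algebra.TensorProduct.tmul_mul_tmul, one_mul])⟩
    rw [← e, hμone] at ht
    rw [← e, show c = 0 from Subtype.ext ht, tmul_zero]
  let eμ : A' ⊗[A] C ≃ₐ[A'] C' := AlgEquiv.ofBijective μ ⟨hμi, hμs⟩
  let eq : ((A ⧸ J) ⊗[A] C) ≃ₐ[A] D₀ := by
    let ν : (A ⧸ J) ⊗[A] C →ₐ[A] D₀ :=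
      Algebra.TensorProduct.lift (IsScalarTower.toAlgHom A (A ⧸ J) D₀) q fun _ _ => Commute.all _ _
    have hone : ∀ z : (A ⧸ J) ⊗[A] C, ∃ c : C, (1 : A ⧸ J) ⊗ₜ[A] c = z := by
      intro z
      induction z with
      | zero => exact ⟨0, tmul_zero _ _⟩
      | tmul x c =>
        obtain ⟨a, rfl⟩ := Ideal.Quotient.mk_surjective x
        exact ⟨a • c, by rw [← TensorProduct.smul_tmul, Algebra.smul_def, mul_one]; rfl⟩
      | add a b ha hb =>
        obtain ⟨c, rfl⟩ := ha
        obtain ⟨d, rfl⟩ := hb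
        exact ⟨c + d, tmul_add _ _ _⟩
    refine AlgEquiv.ofBijective ν ⟨?_, fun d => ?_⟩
    · rw [injective_iff_map_eq_zero]
      intro z hz
      obtain ⟨c, rfl⟩ := hone z
      have hc : c ∈ RingHom.ker q := RingHom.mem_ker.2 (by simpa [ν] using hz)
      rw [hker_q] at hc
      refine Submodule.span_induction (p := fun c _ => (1 : A ⧸ J) ⊗ₜ[A] c = 0) ?_ ?_ ?_ ?_ hc
      · rintro _ ⟨j, hj, rfl⟩
        rw [Algebra.algebraMap_eq_smul_one, ← TensorProduct.smul_tmul, Algebra.smul_def, mul_one,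
          Ideal.Quotient.algebraMap_eq, Ideal.Quotient.eq_zero_iff_mem.2 hj, zero_tmul]
      · exact tmul_zero _ _
      · intro a b _ _ ha hb; rw [tmul_add, ha, hb, add_zero]
      · intro r a _ ha
        rw [smul_eq_mul, show (1 : A ⧸ J) ⊗ₜ[A] (r * a) = ((1 : A ⧸ J) ⊗ₜ r) * (1 ⊗ₜ a) by simp, ha, mul_zero]
    · obtain ⟨c, rfl⟩ := hqs d
      exact ⟨(1 : A ⧸ J) ⊗ₜ c, by simp [ν]⟩
  let eq₀ : ((A ⧸ J) ⊗[A] C) ≃ₐ[A ⧸ J] D₀ := AlgEquiv.ofRingEquiv (f := eq.toRingEquiv) fun x => by
    obtain ⟨a, rfl⟩ := Ideal.Quotient.mk_surjective x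
    rw [← Ideal.Quotient.algebraMap_eq, ← IsScalarTower.algebraMap_apply,
      ← IsScalarTower.algebraMap_apply]
    exact eq.commutes a
  have : Module.Flat A' (A' ⊗[A] C) := Module.Flat.of_linearEquiv eμ.toLinearEquiv
  have : Module.Flat (A ⧸ J) ((A ⧸ J) ⊗[A] C) := Module.Flat.of_linearEquiv eq₀.toLinearEquiv
  have hflat : Module.Flat A C := flat hinj J hJ
  have hincl : Function.Injective (Algebra.TensorProduct.includeRight : C →ₐ[A] A' ⊗[A] C) := fun a b h =>
    Subtype.ext (by rw [← hμone a, ← hμone b]; exact congrArg μ h)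
  -- finite type
  have hft : Algebra.FiniteType A C := by
    obtain ⟨S', hS'⟩ := (Algebra.FiniteType.of_finitePresentation (R := A') (A := C')).out
    obtain ⟨S₀, hS₀⟩ := (Algebra.FiniteType.of_finitePresentation (R := A ⧸ J) (A := D₀)).out
    have hd : ∀ z : C', ∃ s : Finset C, z ∈ Algebra.adjoin A' ((fun c : C => (c : C')) '' s) := by
      intro z
      obtain ⟨t, rfl⟩ := hμs z
      induction t with
      | zero => exact ⟨∅, by simp⟩
      | tmul x c =>
        refine ⟨{c}, ?_⟩
        rw [show μ (x ⊗ₜ[A] c) = x • (c : C') by simp [μ, Algebra.smul_def]]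
        exact Subalgebra.smul_mem _ (Algebra.subset_adjoin (Set.mem_image_of_mem _ (Finset.mem_singleton_self c))) x
      | add a b ha hb =>
        classical
        obtain ⟨s, hs⟩ := ha
        obtain ⟨s', hs'⟩ := hb
        refine ⟨s ∪ s', ?_⟩
        rw [map_add]
        exact add_mem (Algebra.adjoin_mono (by gcongr; exact Finset.subset_union_left) hs)
          (Algebra.adjoin_mono (by gcongr; exact Finset.subset_union_right) hs')
    choose s hs using hd
    classical
    let G : Finset C := S'.biUnion s ∪ S₀.image (fun d => (hqs d).choose)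
    refine ⟨G, ?_⟩
    rw [eq_top_iff]
    let C₀ := Algebra.adjoin A (G : Set C)
    have hgen : ∀ z : C', ∃ t : A' ⊗[A] C₀, μ (Algebra.TensorProduct.map (AlgHom.id A A') C₀.val t) = z := by
      let r : A' ⊗[A] C₀ →ₐ[A'] C' :=
        Algebra.TensorProduct.lift (Algebra.ofId A' C') (C.val.comp C₀.val) fun _ _ => Commute.all _ _
      have hr : ⊤ ≤ r.range := by
        rw [← hS', Algebra.adjoin_le_iff]
        intro z hz
        refine Algebra.adjoin_le ?_ (hs z)
        rintro _ ⟨c, hc, rfl⟩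
        exact ⟨(1 : A') ⊗ₜ ⟨c, Algebra.subset_adjoin (Finset.mem_union_left _
          (Finset.mem_biUnion.2 ⟨z, hz, hc⟩))⟩, by simp [r]⟩
      have e : r = μ.comp ((Algebra.TensorProduct.map (AlgHom.id A' A') C₀.val)) :=
        Algebra.TensorProduct.ext' fun x c => by simp [r, μ]
      intro z
      obtain ⟨t, rfl⟩ := hr (Algebra.mem_top (x := z))
      exact ⟨t, by rw [e]; rfl⟩
    have hJsub : ∀ c ∈ J.map (algebraMap A C), c ∈ C₀ := by
      intro c hc
      refine Submodule.span_induction ?_ ?_ ?_ ?_ hc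
      · rintro _ ⟨j, hj, rfl⟩; exact C₀.algebraMap_mem j
      · exact zero_mem _
      · intro a b _ _ ha hb; exact add_mem ha hb
      · intro r a ha _
        suffices ∀ a ∈ J.map (algebraMap A C), ∀ z : C', ∃ e ∈ C₀, (e : C') = z * a by
          obtain ⟨e, he, ee⟩ := this a ha r
          rwa [show r • a = e from Subtype.ext ee.symm]
        intro a ha
        refine Submodule.span_induction ?_ ?_ ?_ ?_ ha
        · rintro _ ⟨j, hj, rfl⟩ z
          obtain ⟨t, rfl⟩ := hgen z
          induction t with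
          | zero => exact ⟨0, zero_mem _, by simp⟩
          | tmul x c =>
            obtain ⟨a', ha', e⟩ := hJ j hj x
            refine ⟨algebraMap A C a' * c, mul_mem (C₀.algebraMap_mem _) c.2, ?_⟩
            simp [μ, IsScalarTower.algebraMap_apply A A' C', e]
            ring
          | add a b ha hb =>
            obtain ⟨e, he, ee⟩ := ha
            obtain ⟨e', he', ee'⟩ := hb
            exact ⟨e + e', add_mem he he', by simp [ee, ee', add_mul]⟩
        · exact fun z => ⟨0, zero_mem _, by simp⟩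
        · intro a b _ _ ha hb z
          obtain ⟨e, he, ee⟩ := ha z
          obtain ⟨e', he', ee'⟩ := hb z
          exact ⟨e + e', add_mem he he', by simp [ee, ee', mul_add]⟩
        · intro r a _ ha z
          obtain ⟨e, he, ee⟩ := ha (z * r)
          exact ⟨e, he, by simp [ee, mul_assoc]⟩
    intro c _
    have hd : q c ∈ C₀.map q := by
      have hle : (Algebra.adjoin (A ⧸ J) (S₀ : Set D₀)).restrictScalars A ≤ C₀.map q := by
        intro d hd
        refine Algebra.adjoin_induction ?_ ?_ ?_ ?_ hd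
        · intro d hd
          exact ⟨_, Algebra.subset_adjoin (Finset.mem_union_right _ (Finset.mem_image_of_mem _ hd)),
            (hqs d).choose_spec⟩
        · intro x
          obtain ⟨a, rfl⟩ := Ideal.Quotient.mk_surjective x
          rw [← Ideal.Quotient.algebraMap_eq, ← IsScalarTower.algebraMap_apply]
          exact Subalgebra.algebraMap_mem _ a
        · exact fun _ _ _ _ => add_mem
        · exact fun _ _ _ _ => mul_mem
      exact hle (hS₀ ▸ Algebra.mem_top)
    obtain ⟨c₀, hc₀, e⟩ := hd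
    have hsub : c - c₀ ∈ RingHom.ker q := by
      rw [RingHom.mem_ker, map_sub, ← e]
      exact sub_self _
    rw [hker_q] at hsub
    simpa using add_mem (hJsub _ hsub) hc₀
  -- finite presentation
  have hfp : Algebra.FinitePresentation A C := by
    obtain ⟨n, π, hπ⟩ := Algebra.FiniteType.iff_quotient_mvPolynomial''.1 hft
    refine Algebra.FinitePresentation.of_surjective hπ ?_
    let P := MvPolynomial (Fin n) A
    let K : Ideal P := RingHom.ker π
    have h1 : ((K.map (Algebra.TensorProduct.includeRight : P →ₐ[A] A' ⊗[A] P))).FG := by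
      rw [← Algebra.TensorProduct.lTensor_ker _ hπ]
      have hsurj : Function.Surjective (Algebra.TensorProduct.map (AlgHom.id A' A') π) :=
        Algebra.TensorProduct.map_surjective _ _ Function.surjective_id hπ
      have : Algebra.FinitePresentation A' (A' ⊗[A] C) := Algebra.FinitePresentation.equiv eμ.symm
      exact Algebra.FinitePresentation.ker_fG_of_surjective (Algebra.TensorProduct.map (AlgHom.id A' A') π) hsurj
    have h0 : ((K.map (Algebra.TensorProduct.includeRight : P →ₐ[A] (A ⧸ J) ⊗[A] P))).FG := by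
      rw [← Algebra.TensorProduct.lTensor_ker _ hπ]
      have hsurj : Function.Surjective (Algebra.TensorProduct.map (AlgHom.id (A ⧸ J) (A ⧸ J)) π) :=
        Algebra.TensorProduct.map_surjective _ _ Function.surjective_id hπ
      have : Algebra.FinitePresentation (A ⧸ J) ((A ⧸ J) ⊗[A] C) := Algebra.FinitePresentation.equiv eq₀.symm
      exact Algebra.FinitePresentation.ker_fG_of_surjective
        (Algebra.TensorProduct.map (AlgHom.id (A ⧸ J) (A ⧸ J)) π) hsurj
    obtain ⟨K₁, hK₁, hle₁, e₁⟩ := exists_fg_le_map_eq _ K h1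
    obtain ⟨K₂, hK₂, hle₂, e₂⟩ := exists_fg_le_map_eq _ K h0
    let L := K₁ ⊔ K₂
    have hL : L.FG := Submodule.FG.sup hK₁ hK₂
    suffices K ≤ L by rw [show RingHom.ker π.toRingHom = L from le_antisymm this (sup_le hle₁ hle₂)]; exact hL
    intro k hk
    have h := e₂ ▸ Ideal.mem_map_of_mem (Algebra.TensorProduct.includeRight : P →ₐ[A] (A ⧸ J) ⊗[A] P) hk
    obtain ⟨k₂, hk₂, z, hz, e⟩ := Submodule.mem_sup.1 (mem_sup_of_includeRight_mem J K₂ k h)
    have hzK : z ∈ LinearMap.ker π.toLinearMap ⊓ J • (⊤ : Submodule A P) := by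
      refine ⟨?_, ?_⟩
      · have : z = k - k₂ := by rw [← e]; ring
        change π z = 0
        rw [this, map_sub, RingHom.mem_ker.1 hk, RingHom.mem_ker.1 (hle₂ hk₂), sub_zero]
      · rw [Ideal.smul_top_eq_map]
        exact hz
    rw [LinearMap.ker_inf_smul_top_eq_smul_of_flat J π.toLinearMap hπ] at hzK
    have hzL : z ∈ L := by
      refine le_sup_left (b := K₂) (Submodule.smul_induction_on hzK (fun j hj k' hk' => ?_) fun a b ha hb => add_mem ha hb)
      have h' := e₁ ▸ Ideal.mem_map_of_mem (Algebra.TensorProduct.includeRight : P →ₐ[A] A' ⊗[A] P)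
        (show k' ∈ K from hk')
      exact smul_mem_of_includeRight_mem hinj J hJ K₁ k' h' j hj
    rw [← e]
    exact add_mem (Submodule.mem_sup_right hk₂) hzL
  have hunr : Algebra.FormallyUnramified A C := by
    letI : Algebra C (A' ⊗[A] C) := Algebra.TensorProduct.rightAlgebra
    refine ⟨subsingleton_of_tensor (C := C) hincl ?_⟩
    have : Algebra.FormallyUnramified A' (A' ⊗[A] C) :=
      Algebra.FormallyUnramified.of_equiv eμ.symm
    exact (KaehlerDifferential.tensorKaehlerEquivBase A A' C (A' ⊗[A] C)).toEquiv.subsingleton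
  exact ⟨C, inferInstance, inferInstance, Algebra.Etale.of_formallyUnramified_of_flat, ⟨eμ⟩⟩

end Groth.L27.TopInv.Milnor
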