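import Groth.Agent.L27.TopInv.Alg.Frob
import Groth.Agent.L27.TopInv.Alg.Glue
import Groth.Agent.L19.Tower.Scheme
import Mathlib.RingTheory.IntegralClosure.Algebra.Basic
import Mathlib.Order.Zorn

/-! # Etale algebras descend along universal homeomorphisms -/

universe u

open TensorProduct Polynomial

namespace Groth.L27.TopInv.Good

/-- Goodness modulo a conductor ideal suffices. -/
theorem of_conductor {A B : Type u} [CommRing A] [CommRing B] [Algebra A B] [Algebra.IsIntegral A B]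
    (hinj : Function.Injective (algebraMap A B)) (J : Ideal A)
    (hJ : ∀ j ∈ J, ∀ x : B, ∃ a ∈ J, algebraMap A B a = algebraMap A B j * x)
    (h : Good (A ⧸ J) (B ⧸ J.map (algebraMap A B))) : Good A B := by
  intro Cb _ _ hCb
  let B₀ := B ⧸ J.map (algebraMap A B)
  obtain ⟨D₀, _, _, hD₀, ⟨e⟩⟩ := h (B₀ ⊗[B] Cb) inferInstance
  letI : Algebra A Cb := ((algebraMap B Cb).comp (algebraMap A B)).toAlgebra
  haveI : IsScalarTower A B Cb := .of_algebraMap_eq' rfl
  letI : Algebra A D₀ := ((algebraMap (A ⧸ J) D₀).comp (algebraMap A (A ⧸ J))).toAlgebra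
  haveI : IsScalarTower A (A ⧸ J) D₀ := .of_algebraMap_eq' rfl
  have hD0 : ∀ j ∈ J, algebraMap A D₀ j = 0 := fun j hj => by
    rw [IsScalarTower.algebraMap_apply A (A ⧸ J) D₀, Ideal.Quotient.algebraMap_eq,
      Ideal.Quotient.eq_zero_iff_mem.2 hj, map_zero]
  let f : B ⊗[A] D₀ →ₐ[B] B₀ ⊗[A ⧸ J] D₀ :=
    Algebra.TensorProduct.lift (Algebra.ofId B _)
      ((Algebra.TensorProduct.includeRight : D₀ →ₐ[A ⧸ J] B₀ ⊗[A ⧸ J] D₀).restrictScalars A)
      fun _ _ => Commute.all _ _
  have hf : ∀ (b : B) (d : D₀), f (b ⊗ₜ d) = (Ideal.Quotient.mk _ b : B₀) ⊗ₜ[A ⧸ J] d := fun b d => by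
    refine (Algebra.TensorProduct.lift_tmul _ _ _ _ _).trans ?_
    change ((Ideal.Quotient.mk _ b : B₀) ⊗ₜ[A ⧸ J] (1 : D₀)) * ((1 : B₀) ⊗ₜ[A ⧸ J] d) = _
    rw [Algebra.TensorProduct.tmul_mul_tmul, mul_one, one_mul]
  have hk : J.map (algebraMap A B) ≤ RingHom.ker (algebraMap B (B ⊗[A] D₀)) :=
    Ideal.map_le_iff_le_comap.2 fun j hj => by
      rw [Ideal.mem_comap, RingHom.mem_ker, ← IsScalarTower.algebraMap_apply,
        Algebra.TensorProduct.algebraMap_apply', hD0 j hj, tmul_zero]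
  let g₀ : B₀ →ₐ[A] B ⊗[A] D₀ :=
    Ideal.Quotient.liftₐ _ (IsScalarTower.toAlgHom A B (B ⊗[A] D₀)) fun x hx => hk hx
  let g₁ : B₀ →ₐ[A ⧸ J] B₀ := AlgHom.id _ _
  letI : Algebra (A ⧸ J) (B ⊗[A] D₀) :=
    ((Algebra.TensorProduct.includeRight : D₀ →ₐ[A] B ⊗[A] D₀).toRingHom.comp (algebraMap (A ⧸ J) D₀)).toAlgebra
  let g₀' : B₀ →ₐ[A ⧸ J] B ⊗[A] D₀ :=
    { g₀.toRingHom with
      commutes' := fun r => by
        obtain ⟨a, rfl⟩ := Ideal.Quotient.mk_surjective r
        exact (g₀.commutes a).trans ((Algebra.TensorProduct.includeRight : D₀ →ₐ[A] B ⊗[A] D₀).commutes a).symm }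
  let iD : D₀ →ₐ[A ⧸ J] B ⊗[A] D₀ :=
    { (Algebra.TensorProduct.includeRight : D₀ →ₐ[A] B ⊗[A] D₀).toRingHom with commutes' := fun _ => rfl }
  let g : B₀ ⊗[A ⧸ J] D₀ →ₐ[A ⧸ J] B ⊗[A] D₀ :=
    Algebra.TensorProduct.lift g₀' iD fun _ _ => Commute.all _ _
  have hgf : ∀ z, g (f z) = z := fun z => by
    induction z with
    | zero => simp
    | tmul b d =>
      have : f (b ⊗ₜ d) = (Ideal.Quotient.mk _ b) ⊗ₜ[A ⧸ J] d := by
        exact hf b d
      rw [this]
      refine (Algebra.TensorProduct.lift_tmul _ _ _ _ _).trans ?_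
      change algebraMap B (B ⊗[A] D₀) b * ((1 : B) ⊗ₜ[A] d) = _
      simp
    | add a b ha hb => simp only [map_add, ha, hb]
  have hfs : Function.Surjective f := fun w => by
    induction w with
    | zero => exact ⟨0, map_zero _⟩
    | tmul b d =>
      obtain ⟨b, rfl⟩ := Ideal.Quotient.mk_surjective b
      exact ⟨b ⊗ₜ d, hf b d⟩
    | add a b ha hb =>
      obtain ⟨x, rfl⟩ := ha
      obtain ⟨y, rfl⟩ := hb
      exact ⟨x + y, map_add _ _ _⟩
  let ef : B ⊗[A] D₀ ≃ₐ[B] B₀ ⊗[A ⧸ J] D₀ :=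
    AlgEquiv.ofBijective f ⟨Function.LeftInverse.injective hgf, hfs⟩
  let u : B₀ ⊗[B] Cb →ₐ[B] Cb ⧸ J.map (algebraMap A Cb) :=
    Algebra.TensorProduct.lift
      (Ideal.Quotient.liftₐ _ (Algebra.ofId B _) fun x hx => by
        refine Ideal.Quotient.eq_zero_iff_mem.2 ?_
        rw [show algebraMap A Cb = (algebraMap B Cb).comp (algebraMap A B) from rfl, ← Ideal.map_map]
        exact Ideal.mem_map_of_mem _ hx)
      (Ideal.Quotient.mkₐ B _) fun _ _ => Commute.all _ _
  have hu : Function.Bijective u := by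
    let v : Cb ⧸ J.map (algebraMap A Cb) →ₐ[B] B₀ ⊗[B] Cb :=
      Ideal.Quotient.liftₐ _ (Algebra.TensorProduct.includeRight) fun x hx => by
        refine (RingHom.mem_ker (f := (Algebra.TensorProduct.includeRight : Cb →ₐ[B] B₀ ⊗[B] Cb).toRingHom)).1
          (Ideal.map_le_iff_le_comap.2 (fun j hj => ?_) hx)
        rw [Ideal.mem_comap, RingHom.mem_ker]
        refine ((Algebra.TensorProduct.includeRight : Cb →ₐ[B] B₀ ⊗[B] Cb).commutes (algebraMap A B j)).trans ?_
        rw [Algebra.TensorProduct.algebraMap_apply, Ideal.Quotient.algebraMap_eq,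
          Ideal.Quotient.eq_zero_iff_mem.2 (Ideal.mem_map_of_mem _ hj), zero_tmul]
    have h1 : v.comp u = AlgHom.id B _ := by
      refine Algebra.TensorProduct.ext (Ideal.Quotient.algHom_ext _ (Subsingleton.elim _ _)) (AlgHom.ext fun c => ?_)
      change v (u ((1 : B₀) ⊗ₜ[B] c)) = (1 : B₀) ⊗ₜ[B] c
      rw [show u ((1 : B₀) ⊗ₜ[B] c) = Ideal.Quotient.mk _ c by simp [u]]
      rfl
    refine ⟨Function.LeftInverse.injective (AlgHom.congr_fun h1), fun x => ?_⟩
    obtain ⟨c, rfl⟩ := Ideal.Quotient.mk_surjective x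
    exact ⟨(1 : B₀) ⊗ₜ c, by simp [u]⟩
  let γ : B ⊗[A] D₀ ≃ₐ[B] Cb ⧸ J.map (algebraMap A Cb) :=
    (ef.trans (e.restrictScalars B)).trans (AlgEquiv.ofBijective u hu)
  obtain ⟨M, _, _, hM, he⟩ := Milnor.exists_glue hinj J hJ Cb D₀ γ
  exact ⟨M, inferInstance, inferInstance, hM, he⟩

/-- The conductor of an extension. -/
def cond (A B : Type u) [CommRing A] [CommRing B] [Algebra A B] : Ideal A where
  carrier := {a | ∀ x : B, algebraMap A B a * x ∈ Set.range (algebraMap A B)}
  add_mem' {a b} ha hb x := by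
    obtain ⟨c, hc⟩ := ha x
    obtain ⟨d, hd⟩ := hb x
    exact ⟨c + d, by rw [map_add, hc, hd, map_add, add_mul]⟩
  zero_mem' x := ⟨0, by rw [map_zero, zero_mul]⟩
  smul_mem' r a ha x := by
    obtain ⟨c, hc⟩ := ha x
    exact ⟨r * c, by rw [map_mul, hc, smul_eq_mul, map_mul, mul_assoc]⟩

theorem cond_stable (A B : Type u) [CommRing A] [CommRing B] [Algebra A B] :
    ∀ j ∈ cond A B, ∀ x : B, ∃ a ∈ cond A B, algebraMap A B a = algebraMap A B j * x := by
  intro j hj x
  obtain ⟨a, ha⟩ := hj x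
  refine ⟨a, fun y => ?_, ha⟩
  obtain ⟨c, hc⟩ := hj (x * y)
  exact ⟨c, by rw [hc, ha, mul_assoc]⟩

theorem injective_quot_cond {A B : Type u} [CommRing A] [CommRing B] [Algebra A B]
    (hinj : Function.Injective (algebraMap A B)) :
    Function.Injective (algebraMap (A ⧸ cond A B) (B ⧸ (cond A B).map (algebraMap A B))) := by
  rw [injective_iff_map_eq_zero]
  intro x hx
  obtain ⟨x, rfl⟩ := Ideal.Quotient.mk_surjective x
  obtain ⟨a, ha, e⟩ := Milnor.exists_of_mem_map _ (cond_stable A B) (Ideal.Quotient.eq_zero_iff_mem.1 hx)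
  exact Ideal.Quotient.eq_zero_iff_mem.2 (hinj e ▸ ha)

/-- The two elementary steps. -/
theorem of_adjoin {A B : Type u} [CommRing A] [CommRing B] [Algebra A B]
    (hinj : Function.Injective (algebraMap A B)) (b : B) (htop : Algebra.adjoin A {b} = ⊤)
    (hb : L19.Tower.PPr (⊥ : Subalgebra A B) b) : Good A B := by
  have hpoly : ∀ x : B, ∃ f : A[X], aeval b f = x := fun x => by
    have : x ∈ (aeval (R := A) b).range := by
      rw [← Algebra.adjoin_singleton_eq_range_aeval, htop]; trivial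
    exact this
  have hint : Algebra.IsIntegral A B := by
    have hbI : IsIntegral A b := by
      rcases hb with ⟨h2, -⟩ | ⟨p, hp, -, h1⟩
      · obtain ⟨c, hc⟩ := Algebra.mem_bot.1 h2
        exact IsIntegral.of_pow two_pos (hc ▸ isIntegral_algebraMap)
      · obtain ⟨c, hc⟩ := Algebra.mem_bot.1 h1
        exact IsIntegral.of_pow hp.pos (hc ▸ isIntegral_algebraMap)
    refine ⟨fun x => ?_⟩
    obtain ⟨f, rfl⟩ := hpoly x
    induction f using Polynomial.induction_on with
    | C a => rw [aeval_C]; exact isIntegral_algebraMap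
    | add f g hf hg => rw [map_add]; exact hf.add hg
    | monomial n a _ => rw [map_mul, aeval_C, map_pow, aeval_X]; exact isIntegral_algebraMap.mul (hbI.pow _)
  let J := cond A B
  refine of_conductor hinj J (cond_stable A B) ?_
  let B₀ := B ⧸ J.map (algebraMap A B)
  have hmk : ∀ a : A, algebraMap (A ⧸ J) B₀ (Ideal.Quotient.mk J a) =
      Ideal.Quotient.mk (J.map (algebraMap A B)) (algebraMap A B a) := fun _ => rfl
  rcases hb with ⟨h2, h3⟩ | ⟨p, hp, h1, hpp⟩
  · obtain ⟨c2, hc2⟩ := Algebra.mem_bot.1 h2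
    obtain ⟨c3, hc3⟩ := Algebra.mem_bot.1 h3
    have hlin : ∀ x : B, ∃ a a' : A, x = algebraMap A B a + algebraMap A B a' * b := by
      intro x
      obtain ⟨f, rfl⟩ := hpoly x
      induction f using Polynomial.induction_on with
      | C a => exact ⟨a, 0, by simp⟩
      | add f g hf hg =>
        obtain ⟨a, a', e⟩ := hf
        obtain ⟨d, d', e'⟩ := hg
        exact ⟨a + d, a' + d', by rw [map_add, e, e', map_add, map_add]; ring⟩
      | monomial n a _ =>
        rcases Nat.eq_zero_or_pos n with rfl | hn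
        · exact ⟨0, a, by simp⟩
        · suffices ∃ c, algebraMap A B c = b ^ (n + 1) from by
            obtain ⟨c, hc⟩ := this
            exact ⟨a * c, 0, by rw [map_mul, aeval_C, map_pow, aeval_X, map_mul, hc]; simp⟩
          have : ∀ k, (∃ c, algebraMap A B c = b ^ (k + 2)) ∧ ∃ c, algebraMap A B c = b ^ (k + 3) := by
            intro k
            induction k with
            | zero => exact ⟨⟨c2, hc2⟩, ⟨c3, hc3⟩⟩
            | succ k ih =>
              obtain ⟨⟨c, hc⟩, ⟨d, hd⟩⟩ := ih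
              exact ⟨⟨d, hd⟩, ⟨c * c2, by rw [map_mul, hc, hc2]; ring⟩⟩
          obtain ⟨m, rfl⟩ := Nat.exists_eq_succ_of_ne_zero hn.ne'
          exact (this m).1
    have hc2J : c2 ∈ J := fun x => by
      obtain ⟨a, a', rfl⟩ := hlin x
      exact ⟨a * c2 + a' * c3, by rw [map_add, map_mul, map_mul, hc2, hc3]; ring⟩
    let β : B₀ := Ideal.Quotient.mk _ b
    refine of_nilpotent (B₀ := B₀ ⧸ Ideal.span {β}) Ideal.Quotient.mk_surjective ⟨2, ?_⟩ (of_surjective ?_)
    · rw [Ideal.Quotient.algebraMap_eq, Ideal.mk_ker, Ideal.span_singleton_pow, Submodule.zero_eq_bot,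
        Ideal.span_singleton_eq_bot, ← map_pow, ← hc2, Ideal.Quotient.eq_zero_iff_mem]
      exact Ideal.mem_map_of_mem _ hc2J
    · intro y
      obtain ⟨y, rfl⟩ := Ideal.Quotient.mk_surjective y
      obtain ⟨x, rfl⟩ := Ideal.Quotient.mk_surjective y
      obtain ⟨a, a', rfl⟩ := hlin x
      refine ⟨Ideal.Quotient.mk J a, Ideal.Quotient.eq.2 ?_⟩
      rw [hmk, map_add, map_mul, sub_add_cancel_left, neg_mem_iff]
      exact Ideal.mul_mem_left _ _ (Ideal.mem_span_singleton_self _)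
  · obtain ⟨cp, hcp⟩ := Algebra.mem_bot.1 h1
    obtain ⟨cb, hcb⟩ := Algebra.mem_bot.1 hpp
    have hpJ : ((p : A) ^ p) ∈ J := fun x => by
      obtain ⟨f, rfl⟩ := hpoly x
      induction f using Polynomial.induction_on' with
      | add f g hf hg =>
        obtain ⟨a, ha⟩ := hf
        obtain ⟨c, hc⟩ := hg
        exact ⟨a + c, by rw [map_add, ha, hc, map_add, mul_add]⟩
      | monomial n a =>
        have h2 : p - n % p + n % p = p := Nat.sub_add_cancel (Nat.mod_lt n hp.pos).le
        refine ⟨a * ((p : A) ^ (p - n % p) * cp ^ (n % p)) * cb ^ (n / p), ?_⟩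
        rw [map_mul, map_mul, map_mul, map_pow, map_pow, map_pow, hcp, hcb, map_natCast, map_pow,
          map_natCast, aeval_monomial]
        have hsplit : b ^ n = b ^ (n % p) * (b ^ p) ^ (n / p) := by
          rw [← pow_mul, ← pow_add, Nat.mod_add_div]
        rw [hsplit, mul_pow]
        conv_rhs => rw [show (p : B) ^ p = (p : B) ^ (p - n % p) * (p : B) ^ (n % p) by rw [← pow_add, h2]]
        ring
    let P : Ideal B₀ := Ideal.span {(p : B₀)}
    let B₁ := B₀ ⧸ P
    refine of_nilpotent (B₀ := B₁) Ideal.Quotient.mk_surjective ⟨p, ?_⟩ ?_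
    · rw [Ideal.Quotient.algebraMap_eq, Ideal.mk_ker, Ideal.span_singleton_pow, Submodule.zero_eq_bot,
        Ideal.span_singleton_eq_bot, ← map_natCast (Ideal.Quotient.mk (J.map (algebraMap A B))), ← map_pow,
        Ideal.Quotient.eq_zero_iff_mem, ← map_natCast (algebraMap A B), ← map_pow]
      exact Ideal.mem_map_of_mem _ hpJ
    · have h0 : (p : B₁) = 0 := by
        rw [← map_natCast (Ideal.Quotient.mk P)]
        exact Ideal.Quotient.eq_zero_iff_mem.2 (Ideal.mem_span_singleton_self _)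
      let R₁ : Subalgebra (A ⧸ J) B₁ := ⊥
      refine comp (B := R₁) (of_surjective fun y => ?_) (of_pow_mem Subtype.val_injective hp h0 fun y => ?_)
      · obtain ⟨r, hr⟩ := Algebra.mem_bot.1 y.2
        exact ⟨r, Subtype.ext hr⟩
      · obtain ⟨y, rfl⟩ := Ideal.Quotient.mk_surjective y
        obtain ⟨x, rfl⟩ := Ideal.Quotient.mk_surjective y
        obtain ⟨f, rfl⟩ := hpoly x
        let q : B →+* B₁ := (Ideal.Quotient.mk P).comp (Ideal.Quotient.mk (J.map (algebraMap A B)))
        change ∃ a : R₁, (a : B₁) = q (aeval b f) ^ p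
        have hq : ∀ a : A, q (algebraMap A B a) ∈ R₁ := fun a =>
          Algebra.mem_bot.2 ⟨Ideal.Quotient.mk J a, rfl⟩
        suffices q (aeval b f) ^ p ∈ R₁ from ⟨⟨_, this⟩, rfl⟩
        induction f using Polynomial.induction_on' with
        | add f g hf hg => rw [map_add, map_add, add_pow_of_p_zero hp h0]; exact add_mem hf hg
        | monomial n a =>
          rw [aeval_monomial, map_mul, mul_pow, map_pow, ← pow_mul, mul_comm n p, pow_mul, ← map_pow q b,
            ← hcb]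
          exact mul_mem (pow_mem (hq a) _) (pow_mem (hq cb) _)

/-- Etale algebras descend along universal homeomorphisms. -/
theorem of_isUnivHomeo {A B : Type u} [CommRing A] [CommRing B] [Algebra A B]
    (h : FlatMor.IsUnivHomeo (L19.Tower.spec A B)) : Good A B := by
  let G : Set (Subalgebra A B) := {S | Good A S}
  have hbot : (⊥ : Subalgebra A B) ∈ G := of_surjective fun y => by
    obtain ⟨r, hr⟩ := Algebra.mem_bot.1 y.2
    exact ⟨r, Subtype.ext hr⟩
  obtain ⟨S, -, hmax⟩ := zorn_le_nonempty₀ G (fun c hc hchain y hy => by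
    have : Nonempty c := ⟨⟨y, hy⟩⟩
    have hd : Directed (· ≤ ·) (Subtype.val : c → Subalgebra A B) :=
      fun a b => (hchain.directedOn a.1 a.2 b.1 b.2).elim fun z hz => ⟨⟨z, hz.1⟩, hz.2⟩
    let U : Subalgebra A B := iSup (Subtype.val : c → Subalgebra A B)
    have hU : (U : Set B) = ⋃ i : c, (i.1 : Set B) := Subalgebra.coe_iSup_of_directed hd
    refine ⟨U, ?_, fun z hz => le_iSup (Subtype.val : c → Subalgebra A B) ⟨z, hz⟩⟩
    let V : c → Subalgebra A U := fun i => i.1.comap U.val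
    refine of_directed V (fun a b => (hd a b).elim fun z hz =>
      ⟨z, fun x hx => hz.1 hx, fun x hx => hz.2 hx⟩) (fun x => ?_) fun i => ?_
    · exact (Set.mem_iUnion.1 (hU.subset x.2)).imp fun i hi => hi
    · refine congr (B := i.1) ?_ (hc i.2)
      exact
        { toFun := fun x => ⟨⟨x, le_iSup (Subtype.val : c → Subalgebra A B) i x.2⟩, x.2⟩
          invFun := fun x => ⟨x.1.1, x.2⟩
          left_inv := fun _ => rfl
          right_inv := fun _ => rfl
          map_mul' := fun _ _ => rfl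
          map_add' := fun _ _ => rfl
          commutes' := fun _ => rfl }) ⊥ hbot
  have hS : S = ⊤ := L19.Tower.gen_pPr_of_isUnivHomeo h S fun b hb => by
    let T : Subalgebra S B := Algebra.adjoin S {b}
    let β : T := ⟨b, Algebra.self_mem_adjoin_singleton S b⟩
    have hmem : ∀ x : T, (x : B) ∈ S → x ∈ (⊥ : Subalgebra S T) := fun x hx =>
      Algebra.mem_bot.2 ⟨⟨x, hx⟩, Subtype.ext rfl⟩
    have hstep : Good S T := by
      refine of_adjoin (fun x y e => Subtype.ext (congrArg (fun t : T => (t : B)) e)) β ?_ ?_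
      · refine Subalgebra.map_injective (f := T.val) Subtype.val_injective ?_
        rw [AlgHom.map_adjoin_singleton, Algebra.map_top, Subalgebra.range_val]
        rfl
      · rcases hb with ⟨h2, h3⟩ | ⟨p, hp, h1, h2⟩
        · exact Or.inl ⟨hmem _ h2, hmem _ h3⟩
        · exact Or.inr ⟨p, hp, hmem _ (by simpa using h1), hmem _ h2⟩
    let T' : Subalgebra A B := T.restrictScalars A
    have hT' : T' ∈ G := by
      have : IsScalarTower A S T := .of_algebraMap_eq fun r => Subtype.ext rfl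
      exact congr (B := T) (AlgEquiv.refl : T ≃ₐ[A] T) (comp hmax.prop hstep)
    exact (hmax.eq_of_le hT' fun x hx => T.algebraMap_mem ⟨x, hx⟩) ▸ (β.2 : b ∈ T')
  exact congr ((Subalgebra.equivOfEq _ _ hS).trans Subalgebra.topEquiv) hmax.prop

end Groth.L27.TopInv.Good
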