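import Mathlib.RingTheory.Flat.Tensor
import Mathlib.RingTheory.Flat.Stability
import Mathlib.LinearAlgebra.TensorProduct.RightExactness
import Mathlib.LinearAlgebra.TensorProduct.Tower
import Mathlib.Algebra.Module.Torsion.Basic

/-! # Flatness over a ring glued along a conductor ideal -/

universe u

open TensorProduct

namespace Groth.L27.TopInv.Milnor

variable {A : Type u} [CommRing A]

/-- Injections of modules killed by `J` stay injective after tensoring with a module flat modulo `J`. -/
theorem rTensor_injective_of_killed (J : Ideal A) {P Q M : Type u} [AddCommGroup P] [AddCommGroup Q]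
    [AddCommGroup M] [Module A P] [Module A Q] [Module A M] [Module.Flat (A ⧸ J) ((A ⧸ J) ⊗[A] M)]
    (f : P →ₗ[A] Q) (hf : Function.Injective f) (hP : Module.IsTorsionBySet A P J)
    (hQ : Module.IsTorsionBySet A Q J) : Function.Injective (f.rTensor M) := by
  letI := hP.module
  letI := hQ.module
  haveI : IsScalarTower A (A ⧸ J) P := hP.isScalarTower
  haveI : IsScalarTower A (A ⧸ J) Q := hQ.isScalarTower
  let g : P →ₗ[A ⧸ J] Q := f.extendScalarsOfSurjective Ideal.Quotient.mk_surjective
  let eP := AlgebraTensorModule.cancelBaseChange A (A ⧸ J) (A ⧸ J) P M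
  let eQ := AlgebraTensorModule.cancelBaseChange A (A ⧸ J) (A ⧸ J) Q M
  have h : Function.Injective (g.rTensor ((A ⧸ J) ⊗[A] M)) :=
    Module.Flat.rTensor_preserves_injective_linearMap g hf
  have e : ∀ z, eQ (g.rTensor ((A ⧸ J) ⊗[A] M) z) = f.rTensor M (eP z) := by
    intro z
    induction z with
    | zero => simp
    | tmul p y =>
      induction y with
      | zero => simp
      | tmul r m =>
        simp [eP, eQ]
        rw [← map_smul g r p]
        rfl
      | add a b ha hb => rw [tmul_add]; simp only [map_add]; rw [ha, hb]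
    | add a b ha hb => simp only [map_add]; rw [ha, hb]
  intro a b hab
  obtain ⟨a, rfl⟩ := eP.surjective a
  obtain ⟨b, rfl⟩ := eP.surjective b
  rw [← e, ← e] at hab
  exact congrArg eP (h (eQ.injective hab))

variable {A' : Type u} [CommRing A'] [Algebra A A'] {M : Type u} [AddCommGroup M] [Module A M]

/-- An ideal of `A'` stays injective after tensoring with a module whose base change is flat. -/
theorem rTensor_injective_ideal [Module.Flat A' (A' ⊗[A] M)] (I' : Ideal A') :
    Function.Injective ((I'.subtype.restrictScalars A).rTensor M) := by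
  let eP := AlgebraTensorModule.cancelBaseChange A A' A' I' M
  let eQ := AlgebraTensorModule.cancelBaseChange A A' A' A' M
  have h : Function.Injective (I'.subtype.rTensor (A' ⊗[A] M)) :=
    Module.Flat.rTensor_preserves_injective_linearMap _ Subtype.val_injective
  have e : ∀ z, eQ (I'.subtype.rTensor (A' ⊗[A] M) z) = (I'.subtype.restrictScalars A).rTensor M (eP z) := by
    intro z
    induction z with
    | zero => simp
    | tmul p y =>
      induction y with
      | zero => simp
      | tmul r m => simp [eP, eQ]
      | add a b ha hb => rw [tmul_add]; simp only [map_add]; rw [ha, hb]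
    | add a b ha hb => simp only [map_add]; rw [ha, hb]
  intro a b hab
  obtain ⟨a, rfl⟩ := eP.surjective a
  obtain ⟨b, rfl⟩ := eP.surjective b
  rw [← e, ← e] at hab
  exact congrArg eP (h (eQ.injective hab))

/-- The inclusion of an ideal into `A'`. -/
noncomputable def incl (A' : Type u) [CommRing A'] [Algebra A A'] (I : Ideal A) :
    I →ₗ[A] (I.map (algebraMap A A')) where
  toFun i := ⟨algebraMap A A' i, Ideal.mem_map_of_mem _ i.2⟩
  map_add' a b := Subtype.ext (map_add (algebraMap A A') (a : A) b)
  map_smul' r a := Subtype.ext (by simp [Algebra.smul_def])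

@[simp] theorem incl_val (I : Ideal A) (i : I) : (incl A' I i : A') = algebraMap A A' i := rfl

/-- An ideal of `A` whose image is stable under `A'` maps onto the ideal it generates. -/
theorem exists_of_mem_map (I : Ideal A)
    (hI : ∀ i ∈ I, ∀ x : A', ∃ a ∈ I, algebraMap A A' a = algebraMap A A' i * x)
    {y : A'} (hy : y ∈ I.map (algebraMap A A')) : ∃ a ∈ I, algebraMap A A' a = y := by
  refine Submodule.span_induction ?_ ?_ ?_ ?_ hy
  · rintro _ ⟨i, hi, rfl⟩; exact ⟨i, hi, rfl⟩
  · exact ⟨0, zero_mem _, map_zero _⟩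
  · rintro _ _ _ _ ⟨a, ha, rfl⟩ ⟨b, hb, rfl⟩; exact ⟨a + b, add_mem ha hb, map_add _ _ _⟩
  · rintro x _ _ ⟨a, ha, rfl⟩
    obtain ⟨c, hc, hc'⟩ := hI a ha x
    exact ⟨c, hc, hc'.trans (mul_comm _ _)⟩

/-- Products with an ideal stable under `A'` are stable. -/
theorem stable_mul (J I : Ideal A)
    (hJ : ∀ j ∈ J, ∀ x : A', ∃ a ∈ J, algebraMap A A' a = algebraMap A A' j * x) :
    ∀ k ∈ J * I, ∀ x : A', ∃ a ∈ J * I, algebraMap A A' a = algebraMap A A' k * x := by
  intro k hk x
  refine Submodule.mul_induction_on hk (fun j hj i hi => ?_) (fun k k' h h' => ?_)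
  · obtain ⟨a, ha, e⟩ := hJ j hj x
    exact ⟨a * i, Ideal.mul_mem_mul ha hi, by rw [map_mul, map_mul, e]; ring⟩
  · obtain ⟨a, ha, e⟩ := h
    obtain ⟨b, hb, e'⟩ := h'
    exact ⟨a + b, add_mem ha hb, by rw [map_add, map_add, e, e', add_mul]⟩

/-- Flatness glues along a conductor ideal. -/
theorem flat (hinj : Function.Injective (algebraMap A A')) (J : Ideal A)
    (hJ : ∀ j ∈ J, ∀ x : A', ∃ a ∈ J, algebraMap A A' a = algebraMap A A' j * x)
    [Module.Flat A' (A' ⊗[A] M)] [Module.Flat (A ⧸ J) ((A ⧸ J) ⊗[A] M)] : Module.Flat A M := by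
  -- `I ⊗ M → A' ⊗ M` is injective for ideals `I` whose image is stable under `A'`
  have stable : ∀ I : Ideal A, (∀ i ∈ I, ∀ x : A', ∃ a ∈ I, algebraMap A A' a = algebraMap A A' i * x) →
      Function.Injective (((Algebra.linearMap A A').comp I.subtype).rTensor M) := by
    intro I hI
    have hs : Function.Bijective (incl A' I) := by
      refine ⟨fun a b h => Subtype.ext (hinj (congrArg Subtype.val h)), fun ⟨y, hy⟩ => ?_⟩
      obtain ⟨a, ha, e⟩ := exists_of_mem_map I hI hy
      exact ⟨⟨a, ha⟩, Subtype.ext e⟩
    rw [show (Algebra.linearMap A A').comp I.subtype =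
        ((I.map (algebraMap A A')).subtype.restrictScalars A).comp
          (LinearEquiv.ofBijective (incl A' I) hs).toLinearMap from rfl,
      LinearMap.rTensor_comp, LinearMap.coe_comp]
    exact (rTensor_injective_ideal _).comp
      ((LinearEquiv.ofBijective (incl A' I) hs).rTensor M).injective
  -- hence for all ideals inside `J`
  have small : ∀ I : Ideal A, I ≤ J →
      Function.Injective (((Algebra.linearMap A A').comp I.subtype).rTensor M) := by
    intro I hIJ
    rw [injective_iff_map_eq_zero]
    intro x hx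
    let I1 : Ideal A' := I.map (algebraMap A A')
    let N : Submodule A I := J • ⊤
    let N1 : Submodule A I1 := J • ⊤
    let f : I →ₗ[A] I1 ⧸ N1 := N1.mkQ.comp (incl A' I)
    have hle : N ≤ LinearMap.ker f := by
      intro i hi
      refine (Submodule.Quotient.mk_eq_zero N1).2 ?_
      refine Submodule.smul_induction_on hi (fun j hj z _ => ?_) fun a b ha hb => ?_
      · rw [map_smul]; exact Submodule.smul_mem_smul hj trivial
      · rw [map_add]; exact add_mem ha hb
    have hker : LinearMap.ker f ≤ N := by
      intro i hi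
      have h1 : incl A' I i ∈ N1 := (Submodule.Quotient.mk_eq_zero N1).1 hi
      have h2 : ∀ y ∈ N1, (y : A') ∈ (J * I).map (algebraMap A A') := by
        intro y hy
        refine Submodule.smul_induction_on hy (fun j hj z _ => ?_) fun a b ha hb => ?_
        · rw [Ideal.map_mul, Submodule.coe_smul_of_tower, Algebra.smul_def]
          exact Ideal.mul_mem_mul (Ideal.mem_map_of_mem _ hj) z.2
        · exact add_mem ha hb
      obtain ⟨a, ha, e⟩ := exists_of_mem_map (J * I) (stable_mul J I hJ) (h2 _ h1)
      refine (Submodule.mem_smul_top_iff J I i).2 ?_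
      rw [show (i : A) = a from hinj e.symm, smul_eq_mul]
      exact ha
    let fq : (I ⧸ N) →ₗ[A] I1 ⧸ N1 := N.liftQ f hle
    have hfq : Function.Injective fq := LinearMap.ker_eq_bot.1 (N.ker_liftQ_eq_bot _ hle hker)
    have h0 : (incl A' I).rTensor M x = 0 := by
      apply rTensor_injective_ideal (M := M) I1
      rw [map_zero, ← LinearMap.comp_apply, ← LinearMap.rTensor_comp]
      exact hx
    have h1 : N.mkQ.rTensor M x = 0 := by
      apply rTensor_injective_of_killed J (M := M) fq hfq ?_ ?_
      · rw [map_zero, ← LinearMap.comp_apply, ← LinearMap.rTensor_comp, N.liftQ_mkQ]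
        rw [LinearMap.rTensor_comp, LinearMap.comp_apply, h0, map_zero]
      all_goals exact Module.isTorsionBySet_quotient_ideal_smul _ J
    obtain ⟨y, rfl⟩ := (rTensor_exact M (LinearMap.exact_subtype_mkQ N) N.mkQ_surjective x).1 h1
    have hJI : Function.Injective
        ((((Algebra.linearMap A A').comp I.subtype).comp N.subtype).rTensor M) := by
      let e : N ≃ₗ[A] (J * I : Ideal A) :=
        { toFun := fun n => ⟨(n : I), (Submodule.mem_smul_top_iff J I n).1 n.2⟩
          map_add' := fun _ _ => rfl
          map_smul' := fun _ _ => rfl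
          invFun := fun a => ⟨⟨a, Ideal.mul_le_right a.2⟩, (Submodule.mem_smul_top_iff J I _).2 a.2⟩
          left_inv := fun _ => rfl
          right_inv := fun _ => rfl }
      rw [show ((Algebra.linearMap A A').comp I.subtype).comp N.subtype =
        ((Algebra.linearMap A A').comp (J * I : Ideal A).subtype).comp e.toLinearMap from rfl,
        LinearMap.rTensor_comp, LinearMap.coe_comp]
      exact (stable _ (stable_mul J I hJ)).comp (e.rTensor M).injective
    have hy : y = 0 := hJI (by rw [map_zero, LinearMap.rTensor_comp, LinearMap.comp_apply]; exact hx)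
    rw [hy, map_zero]
  rw [Module.Flat.iff_rTensor_injective']
  intro I
  rw [injective_iff_map_eq_zero]
  intro x hx
  let π : I →ₗ[A] A ⧸ J := (Ideal.Quotient.mkₐ A J).toLinearMap.comp I.subtype
  let P : Submodule A (A ⧸ J) := LinearMap.range π
  have hAJ : Module.IsTorsionBySet A (A ⧸ J) J := by
    intro y j
    obtain ⟨y, rfl⟩ := Ideal.Quotient.mk_surjective y
    exact Ideal.Quotient.eq_zero_iff_mem.2 (Ideal.mul_mem_right _ _ j.2)
  have h1 : π.rangeRestrict.rTensor M x = 0 := by
    apply rTensor_injective_of_killed J (M := M) P.subtype Subtype.val_injective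
      (fun y j => Subtype.ext (@hAJ (y : A ⧸ J) j)) hAJ
    rw [map_zero, ← LinearMap.comp_apply, ← LinearMap.rTensor_comp]
    change π.rTensor M x = 0
    rw [LinearMap.rTensor_comp, LinearMap.comp_apply, hx, map_zero]
  obtain ⟨y, rfl⟩ := (rTensor_exact M (LinearMap.exact_subtype_ker_map π.rangeRestrict)
    π.surjective_rangeRestrict x).1 h1
  let e : LinearMap.ker π.rangeRestrict →ₗ[A] (I ⊓ J : Ideal A) :=
    { toFun := fun n => ⟨(n : I), (n : I).2,
        Ideal.Quotient.eq_zero_iff_mem.1 (congrArg Subtype.val n.2)⟩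
      map_add' := fun _ _ => rfl
      map_smul' := fun _ _ => rfl }
  have hy : e.rTensor M y = 0 := by
    apply small (I ⊓ J) inf_le_right
    rw [map_zero, ← LinearMap.comp_apply, ← LinearMap.rTensor_comp]
    rw [show ((Algebra.linearMap A A').comp (I ⊓ J : Ideal A).subtype).comp e =
      ((Algebra.linearMap A A').comp I.subtype).comp (LinearMap.ker π.rangeRestrict).subtype from rfl]
    rw [LinearMap.rTensor_comp, LinearMap.comp_apply, LinearMap.rTensor_comp, LinearMap.comp_apply,
      hx, map_zero]
  rw [show (LinearMap.ker π.rangeRestrict).subtype =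
    (Submodule.inclusion (inf_le_left : I ⊓ J ≤ I)).comp e from rfl,
    LinearMap.rTensor_comp, LinearMap.comp_apply, hy, map_zero]

end Groth.L27.TopInv.Milnor
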