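import Groth.Agent.L27.TopInv.Alg.Good
import Groth.Agent.L27.TopInv.Sections
import Mathlib.RingTheory.Kaehler.Basic
import Mathlib.Algebra.CharP.Lemmas
import Mathlib.RingTheory.Spectrum.Prime.RingHom

/-! # Etale algebras descend along Frobenius-bounded extensions in characteristic `p` -/

universe u

open TensorProduct AlgebraicGeometry CategoryTheory CategoryTheory.Limits

namespace Groth.L27.TopInv.Good

theorem add_pow_of_p_zero {S : Type*} [CommRing S] {p : ℕ} (hp : p.Prime) (h0 : (p : S) = 0) (x y : S) :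
    (x + y) ^ p = x ^ p + y ^ p := by
  obtain ⟨r, hr⟩ := exists_add_pow_prime_eq hp x y
  rw [hr, h0, zero_mul, zero_mul, zero_mul, add_zero]

/-- The `p`-th power map when `p = 0`. -/
def frob (S : Type*) [CommRing S] {p : ℕ} (hp : p.Prime) (h0 : (p : S) = 0) : S →+* S where
  toFun x := x ^ p
  map_one' := one_pow p
  map_mul' x y := mul_pow x y p
  map_zero' := zero_pow hp.ne_zero
  map_add' := add_pow_of_p_zero hp h0

theorem universallyInjective_of_pow_mem {R S : CommRingCat.{u}} (φ : R ⟶ S) {p : ℕ} (hp : p.Prime)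
    (h0 : (p : S) = 0) (h : ∀ s : S, ∃ r, φ r = s ^ p) : UniversallyInjective (Spec.map φ) := by
  algebraize [φ.hom]
  rw [show φ = CommRingCat.ofHom (algebraMap R S) from rfl, UniversallyInjective.iff_diagonal,
    diagonal_SpecMap]
  have h0' : (p : S ⊗[R] S) = 0 := by rw [← map_natCast (algebraMap S (S ⊗[R] S)), h0, map_zero]
  let μ := (Algebra.TensorProduct.lmul' R : S ⊗[R] S →ₐ[R] S)
  have hker : RingHom.ker μ.toRingHom ≤ nilradical (S ⊗[R] S) := by
    change KaehlerDifferential.ideal R S ≤ _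
    rw [← KaehlerDifferential.span_range_eq_ideal, Ideal.span_le]
    rintro _ ⟨s, rfl⟩
    refine ⟨p, ?_⟩
    obtain ⟨r, hr⟩ := h s
    have e := add_pow_of_p_zero hp h0' ((1 : S) ⊗ₜ[R] s - s ⊗ₜ[R] (1 : S)) (s ⊗ₜ[R] (1 : S))
    rw [sub_add_cancel, Algebra.TensorProduct.tmul_pow, Algebra.TensorProduct.tmul_pow, one_pow, ← hr] at e
    change (1 : S) ⊗ₜ[R] algebraMap R S r = _ + algebraMap R S r ⊗ₜ[R] (1 : S) at e
    rw [← Algebra.TensorProduct.algebraMap_apply', Algebra.TensorProduct.algebraMap_apply] at e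
    exact add_eq_right.1 e.symm
  have : Surjective (Spec.map (CommRingCat.ofHom μ.toRingHom)) := by
    refine ⟨Set.range_eq_univ.1 ?_⟩
    refine (_root_.range_comap_of_surjective _ μ.toRingHom
      (fun s => ⟨s ⊗ₜ 1, by simp [μ]⟩)).trans ?_
    exact Set.eq_univ_of_forall fun q x hx => (nilradical_le_prime q.asIdeal) (hker hx)
  infer_instance

theorem universallyInjective_of_comp {X Y Z : Scheme.{u}} (f : X ⟶ Y) (g : Y ⟶ Z)
    [UniversallyInjective (f ≫ g)] : UniversallyInjective f := by
  refine ((tfae_universallyInjective f).out 1 0).1 fun K hK a b e => ?_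
  have h2 := (tfae_universallyInjective (f ≫ g)).out 0 1
  have h3 := h2.1 ‹UniversallyInjective (f ≫ g)›
  exact @h3 K hK a b (by simpa only [← Category.assoc] using congrArg (· ≫ g) e)

/-- A copy of an algebra. -/
def Twisted (C : Type u) : Type u := C

instance (C : Type u) [CommRing C] : CommRing (Twisted C) := inferInstanceAs (CommRing C)

/-- Relative Frobenius of etale algebras is bijective, in the form used for descent. -/
theorem of_pow_mem {A B : Type u} [CommRing A] [CommRing B] [Algebra A B]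
    (hinj : Function.Injective (algebraMap A B)) {p : ℕ} (hp : p.Prime) (h0 : (p : B) = 0)
    (h : ∀ b : B, ∃ a, algebraMap A B a = b ^ p) : Good A B := by
  intro Cb _ _ hCb
  choose F₀ hF₀ using h
  let F : B →+* A :=
    { toFun := F₀
      map_one' := hinj (by rw [hF₀, map_one, one_pow])
      map_mul' := fun x y => hinj (by rw [map_mul, hF₀, hF₀, hF₀, mul_pow])
      map_zero' := hinj (by rw [hF₀, map_zero, zero_pow hp.ne_zero])
      map_add' := fun x y => hinj (by rw [map_add, hF₀, hF₀, hF₀, add_pow_of_p_zero hp h0]) }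
  letI : Algebra B A := F.toAlgebra
  let M := A ⊗[B] Cb
  have hM : Algebra.Etale A M := inferInstance
  refine ⟨M, inferInstance, inferInstance, hM, ?_⟩
  have h0C : (p : Cb) = 0 := by rw [← map_natCast (algebraMap B Cb), h0, map_zero]
  -- the comparison map
  letI : Algebra B (Twisted Cb) := ((algebraMap B Cb).comp (frob B hp h0)).toAlgebra
  letI : Algebra A (Twisted Cb) := ((algebraMap B Cb).comp (algebraMap A B)).toAlgebra
  haveI : IsScalarTower B A (Twisted Cb) := .of_algebraMap_eq fun b =>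
    (congrArg (algebraMap B Cb) (hF₀ b)).symm
  let ι : Cb →ₐ[B] Twisted Cb :=
    { frob Cb hp h0C with commutes' := fun b => (map_pow (algebraMap B Cb) b p).symm }
  let ψ : M →ₐ[A] Twisted Cb :=
    Algebra.TensorProduct.lift (Algebra.ofId A (Twisted Cb)) ι fun _ _ => Commute.all _ _
  let idT : Twisted Cb → Cb := id
  letI : Algebra A Cb := ((algebraMap B Cb).comp (algebraMap A B)).toAlgebra
  haveI : IsScalarTower A B Cb := .of_algebraMap_eq' rfl
  let ψ' : M →ₐ[A] Cb :=
    { toFun := fun m => idT (ψ m)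
      map_one' := map_one ψ
      map_mul' := map_mul ψ
      map_zero' := map_zero ψ
      map_add' := map_add ψ
      commutes' := ψ.commutes }
  let Ψ : B ⊗[A] M →ₐ[B] Cb :=
    Algebra.TensorProduct.lift (Algebra.ofId B Cb) ψ' fun _ _ => Commute.all _ _
  let π : CommRingCat.of Cb ⟶ CommRingCat.of (B ⊗[A] M) :=
    CommRingCat.ofHom ((Algebra.TensorProduct.includeRight : M →ₐ[A] B ⊗[A] M).toRingHom.comp
      (Algebra.TensorProduct.includeRight : Cb →ₐ[B] A ⊗[B] Cb).toRingHom)
  let ψc : CommRingCat.of (B ⊗[A] M) ⟶ CommRingCat.of Cb := CommRingCat.ofHom Ψ.toRingHom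
  have hcomp : π ≫ ψc = CommRingCat.ofHom (frob Cb hp h0C) := by
    ext c
    change Ψ ((1 : B) ⊗ₜ[A] ((1 : A) ⊗ₜ[B] c)) = c ^ p
    refine (Algebra.TensorProduct.lift_tmul _ _ _ _ _).trans ?_
    rw [map_one, one_mul]
    change (ψ ((1 : A) ⊗ₜ[B] c) : Twisted Cb) = ι c
    refine (Algebra.TensorProduct.lift_tmul _ _ _ _ _).trans ?_
    rw [map_one, one_mul]
  have h0T : (p : B ⊗[A] M) = 0 := by rw [← map_natCast (algebraMap B (B ⊗[A] M)), h0, map_zero]
  have hπ : UniversallyInjective (Spec.map π) := by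
    refine universallyInjective_of_pow_mem π hp h0T fun (t : B ⊗[A] M) => ?_
    let P := (π.hom).range
    suffices t ^ p ∈ P by exact this
    induction t with
    | zero => rw [zero_pow hp.ne_zero]; exact zero_mem P
    | tmul b m =>
      revert m
      intro (m : A ⊗[B] Cb)
      induction m with
      | zero => rw [tmul_zero, zero_pow hp.ne_zero]; exact zero_mem P
      | tmul a c =>
        rw [Algebra.TensorProduct.tmul_pow, Algebra.TensorProduct.tmul_pow]
        have e1 : (b ^ p) ⊗ₜ[A] ((a ^ p) ⊗ₜ[B] (c ^ p)) = π (algebraMap B Cb (b * algebraMap A B a)) * π (c ^ p) := by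
          rw [← map_mul, ← Algebra.smul_def]
          change _ = (1 : B) ⊗ₜ[A] ((1 : A) ⊗ₜ[B] ((b * algebraMap A B a) • c ^ p))
          rw [TensorProduct.tmul_smul, TensorProduct.smul_tmul', Algebra.smul_def, mul_one]
          have ha : algebraMap B A (b * algebraMap A B a) = F b * a ^ p := by
            change F (b * algebraMap A B a) = _
            refine hinj ?_
            have hFa : ∀ x : B, algebraMap A B (F x) = x ^ p := hF₀
            rw [hFa, map_mul, hFa, map_pow, mul_pow]
          rw [ha, show (F b * a ^ p) ⊗ₜ[B] (c ^ p) = F b • ((a ^ p) ⊗ₜ[B] (c ^ p)) from rfl,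
            TensorProduct.tmul_smul, TensorProduct.smul_tmul', Algebra.smul_def, mul_one]
          exact congrArg (· ⊗ₜ[A] _) (hF₀ b).symm
        rw [e1]
        exact mul_mem ⟨_, rfl⟩ ⟨_, rfl⟩
      | add m m' hm hm' => rw [tmul_add, add_pow_of_p_zero hp h0T]; exact add_mem hm hm'
    | add t t' ht ht' => rw [add_pow_of_p_zero hp h0T]; exact add_mem ht ht'
  have hfrob : UniversallyInjective (Spec.map (CommRingCat.ofHom (frob Cb hp h0C))) ∧
      Surjective (Spec.map (CommRingCat.ofHom (frob Cb hp h0C))) := by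
    refine ⟨universallyInjective_of_pow_mem _ hp h0C fun s => ⟨s, rfl⟩, ⟨fun q => ⟨q, ?_⟩⟩⟩
    apply PrimeSpectrum.ext
    ext x
    exact ⟨fun hx => q.isPrime.mem_of_pow_mem p hx, fun hx => q.asIdeal.pow_mem_of_mem hx p hp.pos⟩
  have e : Spec.map ψc ≫ Spec.map π = Spec.map (CommRingCat.ofHom (frob Cb hp h0C)) := by
    rw [← Spec.map_comp, hcomp]
  obtain ⟨_, _⟩ := hfrob
  have : UniversallyInjective (Spec.map ψc ≫ Spec.map π) := by rw [e]; infer_instance
  have := universallyInjective_of_comp (Spec.map ψc) (Spec.map π)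
  have : Surjective (Spec.map ψc) := ⟨fun x => by
    obtain ⟨y, hy⟩ := (Spec.map (CommRingCat.ofHom (frob Cb hp h0C))).surjective ((Spec.map π).base x)
    refine ⟨y, (Spec.map π).injective ?_⟩
    rw [← Scheme.Hom.comp_apply, e]
    exact hy⟩
  have : AlgebraicGeometry.Etale (Spec.map ψc) := by
    refine HasRingHomProperty.Spec_iff.2 ?_
    letI : Algebra (B ⊗[A] M) Cb := Ψ.toRingHom.toAlgebra
    haveI : IsScalarTower B (B ⊗[A] M) Cb := .of_algebraMap_eq fun b => (Ψ.commutes b).symm
    exact RingHom.etale_algebraMap.2 (Algebra.Etale.of_restrictScalars B _ _)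
  have := isOpenImmersion_of_etale_univInjective (Spec.map ψc)
  have : IsIso (Spec.map ψc) :=
    (isIso_iff_isOpenImmersion_and_surjective _).2 ⟨inferInstance, inferInstance⟩
  have : IsIso (Scheme.Spec.map ψc.op) := ‹IsIso (Spec.map ψc)›
  have : IsIso ψc.op := isIso_of_reflects_iso ψc.op Scheme.Spec
  have : IsIso ψc := isIso_of_op ψc
  exact ⟨AlgEquiv.ofBijective Ψ (ConcreteCategory.bijective_of_isIso ψc)⟩

end Groth.L27.TopInv.Good
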