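import Groth.Agent.L27.EtaleLift
import Mathlib.RingTheory.Etale.Basic
import Mathlib.RingTheory.RingHom.Etale
import Mathlib.RingTheory.Smooth.Basic
import Mathlib.RingTheory.Ideal.Quotient.Nilpotent
import Mathlib.LinearAlgebra.TensorProduct.RightExactness

/-! # Ring maps along which every etale algebra descends -/

universe u

open TensorProduct

namespace Groth.L27.TopInv.Good

/-- Every etale algebra over `B` is the base change of an etale algebra over `A`. -/
def Good (A B : Type u) [CommRing A] [CommRing B] [Algebra A B] : Prop :=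
  ∀ (Cb : Type u) [CommRing Cb] [Algebra B Cb], Algebra.Etale B Cb →
    ∃ (M : Type u) (_ : CommRing M) (_ : Algebra A M), Algebra.Etale A M ∧
      Nonempty (B ⊗[A] M ≃ₐ[B] Cb)

theorem of_surjective {A B : Type u} [CommRing A] [CommRing B] [Algebra A B]
    (hs : Function.Surjective (algebraMap A B)) : Good A B := by
  intro Cb _ _ hCb
  let I : Ideal A := RingHom.ker (algebraMap A B)
  let e : (A ⧸ I) ≃ₐ[A] B := Ideal.quotientKerAlgEquivOfSurjective (f := Algebra.ofId A B) hs
  letI : Algebra (A ⧸ I) Cb := ((algebraMap B Cb).comp e.toAlgHom.toRingHom).toAlgebra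
  have : Algebra.Etale (A ⧸ I) Cb := by
    refine RingHom.etale_algebraMap.1 ?_
    exact RingHom.Etale.stableUnderComposition _ _ (RingHom.Etale.of_bijective e.bijective)
      (RingHom.etale_algebraMap.2 hCb)
  obtain ⟨M, _, _, hM, ⟨f⟩⟩ := EtaleLift.exists_lift A I Cb
  refine ⟨M, inferInstance, inferInstance, hM, ⟨?_⟩⟩
  let g : B ⊗[A] M ≃ₐ[A] (A ⧸ I) ⊗[A] M := Algebra.TensorProduct.congr e.symm AlgEquiv.refl
  refine AlgEquiv.ofRingEquiv (f := g.toRingEquiv.trans f.toRingEquiv) fun b => ?_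
  obtain ⟨x, rfl⟩ := e.surjective b
  have h1 : g (algebraMap B (B ⊗[A] M) (e x)) = algebraMap (A ⧸ I) ((A ⧸ I) ⊗[A] M) x := by
    simp [g, Algebra.TensorProduct.algebraMap_apply]
  exact (congrArg f h1).trans (f.commutes x)

theorem comp {A B C : Type u} [CommRing A] [CommRing B] [CommRing C] [Algebra A B] [Algebra B C]
    [Algebra A C] [IsScalarTower A B C] (h₁ : Good A B) (h₂ : Good B C) : Good A C := by
  intro Cb _ _ hCb
  obtain ⟨N, _, _, hN, ⟨e⟩⟩ := h₂ Cb hCb
  obtain ⟨M, _, _, hM, ⟨f⟩⟩ := h₁ N hN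
  exact ⟨M, inferInstance, inferInstance, hM,
    ⟨(((Algebra.TensorProduct.cancelBaseChange A B C C M).symm.trans
      (Algebra.TensorProduct.congr AlgEquiv.refl f))).trans e⟩⟩

theorem congr {A B B' : Type u} [CommRing A] [CommRing B] [CommRing B'] [Algebra A B] [Algebra A B']
    (e : B ≃ₐ[A] B') (h : Good A B) : Good A B' := by
  letI : Algebra B B' := e.toAlgHom.toRingHom.toAlgebra
  haveI : IsScalarTower A B B' := .of_algebraMap_eq fun r => (e.commutes r).symm
  exact comp h (of_surjective e.surjective)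

/-- Etale algebras which agree modulo a nilpotent ideal agree. -/
theorem nonempty_algEquiv_of_nilpotent {B B₀ M N : Type u} [CommRing B] [CommRing B₀] [CommRing M]
    [CommRing N] [Algebra B B₀] [Algebra B M] [Algebra B N] [Algebra.Etale B M] [Algebra.Etale B N]
    (hs : Function.Surjective (algebraMap B B₀)) (hn : IsNilpotent (RingHom.ker (algebraMap B B₀)))
    (e : B₀ ⊗[B] M ≃ₐ[B₀] B₀ ⊗[B] N) : Nonempty (M ≃ₐ[B] N) := by
  have key : ∀ (T : Type u) [CommRing T] [Algebra B T],
      Function.Surjective (Algebra.TensorProduct.includeRight : T →ₐ[B] B₀ ⊗[B] T) ∧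
        IsNilpotent (RingHom.ker (Algebra.TensorProduct.includeRight : T →ₐ[B] B₀ ⊗[B] T)) := by
    intro T _ _
    let φ := Algebra.TensorProduct.map (Algebra.ofId B B₀) (AlgHom.id B T)
    let l : B ⊗[B] T ≃ₐ[B] T := Algebra.TensorProduct.lid B T
    have hφ : (Algebra.TensorProduct.includeRight : T →ₐ[B] B₀ ⊗[B] T) = φ.comp l.symm.toAlgHom :=
      AlgHom.ext fun t => by simp [φ, l]
    have hker := Algebra.TensorProduct.rTensor_ker (R := B) (S := B) (C := T) (Algebra.ofId B B₀) hs
    refine ⟨?_, ?_⟩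
    · rw [hφ]
      exact (Algebra.TensorProduct.map_surjective _ _ hs Function.surjective_id).comp l.symm.surjective
    · have hle : RingHom.ker (Algebra.TensorProduct.includeRight : T →ₐ[B] B₀ ⊗[B] T) ≤
          (RingHom.ker (algebraMap B B₀)).map (algebraMap B T) := by
        intro t ht
        rw [hφ] at ht
        have h' : l.symm t ∈ (RingHom.ker (Algebra.ofId B B₀)).map
            (Algebra.TensorProduct.includeLeft : B →ₐ[B] B ⊗[B] T) := hker ▸ ht
        have h'' := Ideal.mem_map_of_mem l.toAlgHom h'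
        rw [AlgEquiv.toAlgHom_eq_coe, Ideal.map_mapₐ] at h''
        simp only [AlgEquiv.coe_algHom, AlgEquiv.apply_symm_apply] at h''
        have hl : (l : B ⊗[B] T →ₐ[B] T).comp
            (Algebra.TensorProduct.includeLeft : B →ₐ[B] B ⊗[B] T) = Algebra.ofId B T :=
          AlgHom.ext fun b => by simp [l, Algebra.smul_def, Algebra.ofId_apply]
        rw [hl] at h''
        exact h''
      obtain ⟨n, hn⟩ := hn
      refine ⟨n, le_bot_iff.1 ((Ideal.pow_right_mono hle n).trans ?_)⟩
      rw [← Ideal.map_pow, hn, Submodule.zero_eq_bot, Ideal.map_bot]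
  obtain ⟨hMs, hMn⟩ := key M
  obtain ⟨hNs, hNn⟩ := key N
  let πM : M →ₐ[B] B₀ ⊗[B] M := Algebra.TensorProduct.includeRight
  let πN : N →ₐ[B] B₀ ⊗[B] N := Algebra.TensorProduct.includeRight
  let f : M →ₐ[B] N := Algebra.FormallySmooth.liftOfSurjective
    ((e.toAlgHom.restrictScalars B).comp πM) πN hNs hNn
  let g : N →ₐ[B] M := Algebra.FormallySmooth.liftOfSurjective
    ((e.symm.toAlgHom.restrictScalars B).comp πN) πM hMs hMn
  have hf : ∀ x, πN (f x) = e (πM x) := Algebra.FormallySmooth.liftOfSurjective_apply _ _ hNs hNn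
  have hg : ∀ x, πM (g x) = e.symm (πN x) := Algebra.FormallySmooth.liftOfSurjective_apply _ _ hMs hMn
  refine ⟨AlgEquiv.ofAlgHom f g ?_ ?_⟩
  · exact Algebra.FormallyUnramified.ext' (πN.toRingHom) hNn _ _ fun x => by
      show πN (f (g x)) = πN x
      rw [hf, hg, AlgEquiv.apply_symm_apply]
  · exact Algebra.FormallyUnramified.ext' (πM.toRingHom) hMn _ _ fun x => by
      show πM (g (f x)) = πM x
      rw [hg, hf, AlgEquiv.symm_apply_apply]

/-- Goodness can be checked modulo a nilpotent ideal. -/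
theorem of_nilpotent {A B B₀ : Type u} [CommRing A] [CommRing B] [CommRing B₀] [Algebra A B]
    [Algebra B B₀] [Algebra A B₀] [IsScalarTower A B B₀] (hs : Function.Surjective (algebraMap B B₀))
    (hn : IsNilpotent (RingHom.ker (algebraMap B B₀))) (h : Good A B₀) : Good A B := by
  intro Cb _ _ hCb
  obtain ⟨M, _, _, hM, ⟨e⟩⟩ := h (B₀ ⊗[B] Cb) inferInstance
  exact ⟨M, inferInstance, inferInstance, hM, nonempty_algEquiv_of_nilpotent hs hn
    ((Algebra.TensorProduct.cancelBaseChange A B B₀ B₀ M).trans e)⟩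

/-- Goodness passes to directed unions of subalgebras. -/
theorem of_directed {A B : Type u} [CommRing A] [CommRing B] [Algebra A B] {ι : Type*} [Nonempty ι]
    (S : ι → Subalgebra A B) (hd : Directed (· ≤ ·) S) (hU : ∀ b, ∃ i, b ∈ S i)
    (h : ∀ i, Good A (S i)) : Good A B := by
  intro Cb _ _ hCb
  obtain ⟨n, σ, _, _, P, hP⟩ :=
    ((Algebra.Etale.iff_isStandardSmoothOfRelativeDimension_zero (R := B) (S := Cb)).mp hCb).out
  obtain ⟨i, hi⟩ : ∃ i, P.coeffs ⊆ (S i : Set B) := by
    classical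
    have hfin : P.coeffs.Finite := P.finite_coeffs
    choose idx hidx using hU
    obtain ⟨i, hi⟩ := hd.finset_le (hfin.toFinset.image idx)
    exact ⟨i, fun b hb => hi (idx b) (Finset.mem_image_of_mem _ (hfin.mem_toFinset.2 hb)) (hidx b)⟩
  have : P.HasCoeffs (S i) := ⟨fun x hx => ⟨⟨x, hi hx⟩, rfl⟩⟩
  obtain ⟨N, _, _, hN, ⟨e⟩⟩ := EtaleLift.exists_model (A := S i) P hP
  obtain ⟨M, _, _, hM, ⟨f⟩⟩ := h i N hN
  exact ⟨M, inferInstance, inferInstance, hM,
    ⟨((Algebra.TensorProduct.cancelBaseChange A (S i) B B M).symm.trans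
      (Algebra.TensorProduct.congr AlgEquiv.refl f)).trans e⟩⟩

end Groth.L27.TopInv.Good
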